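import Cfsg.Agent.E6Deg.Count

/-!
The arithmetic of the smallest nonlinear degree of `E₆(q)`.
-/

set_option autoImplicit false
set_option maxRecDepth 100000

namespace Cfsg.Agent.E6Deg

/-- The bound. -/
def BZ (q : ℤ) : ℤ := q * (q ^ 6 + q ^ 3 + 1) * (q ^ 4 + 1)

theorem strip {P X Φ N u v : ℤ} (hN : N = u * P + v * Φ) :
    ∀ e : ℕ, P ∣ X * Φ ^ e → P ∣ X * N ^ e
  | 0, h => by simpa using h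
  | e + 1, h => by
    have h1 : P ∣ X * Φ ^ e * N := by
      have e1 : X * Φ ^ e * N = X * Φ ^ e * u * P + v * (X * Φ ^ (e + 1)) := by rw [hN]; ring
      rw [e1]
      exact dvd_add (dvd_mul_left _ _) (h.mul_left v)
    have h2 : P ∣ X * N * Φ ^ e := by rwa [mul_right_comm]
    have h3 := strip hN e h2
    rwa [pow_succ', ← mul_assoc]

/-- One less than the bound does not divide the order. -/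
theorem not_dvd_order {q : ℕ} (hq : 2 ≤ q) :
    ¬ (BZ q - 1) ∣ ((q : ℤ) ^ 36 * (((q : ℤ) ^ 2 - 1) * ((q : ℤ) ^ 5 - 1) * ((q : ℤ) ^ 6 - 1) *
      ((q : ℤ) ^ 8 - 1) * ((q : ℤ) ^ 9 - 1) * ((q : ℤ) ^ 12 - 1))) := by
  intro h
  rcases Nat.lt_or_ge q 7 with h7 | h7
  · interval_cases q <;> norm_num [BZ] at h
  have hq' : (7 : ℤ) ≤ (q : ℤ) := by exact_mod_cast h7
  clear hq h7
  generalize (q : ℤ) = q at *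
  set P : ℤ := -1 + q ^ 2 + q ^ 3 + q ^ 4 + q ^ 5 + q ^ 8 + q ^ 9 with hP
  have hdvd : P ∣ BZ q - 1 := ⟨q ^ 2 - q + 1, by rw [hP, BZ]; ring⟩
  have h0 := hdvd.trans h
  have b1 : (5 : ℤ) = (1) * P + (-6 - 6 * q - 5 * q ^ 2 - 4 * q ^ 3 - 3 * q ^ 4 - 2 * q ^ 5 - 2 * q ^ 6 - 2 * q ^ 7 - q ^ 8) * (-1 + q) := by
    rw [hP]; ring
  have b2 : (1 : ℤ) = (-1) * P + (q ^ 2 + q ^ 4 + q ^ 8) * (1 + q) := by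
    rw [hP]; ring
  have b3 : (2 : ℤ) = (q) * P + (2 - q - q ^ 2 + q ^ 3 - q ^ 4 - q ^ 5 + q ^ 6 - q ^ 8) * (1 + q + q ^ 2) := by
    rw [hP]; ring
  have b4 : (1 : ℤ) = (-q) * P + (1 - q - q ^ 2 + 2 * q ^ 3 + 2 * q ^ 4 - q ^ 5 - q ^ 6 + q ^ 7 + q ^ 8) * (1 + q ^ 2) := by
    rw [hP]; ring
  have b5 : (5 : ℤ) = (-4 + 2 * q - 2 * q ^ 2 - q ^ 3) * P + (1 + q - q ^ 3 + 3 * q ^ 4 + 2 * q ^ 5 - 3 * q ^ 6 + 2 * q ^ 7 + q ^ 8) * (1 + q + q ^ 2 + q ^ 3 + q ^ 4) := by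
    rw [hP]; ring
  have b6 : (4 : ℤ) = (-1) * P + (3 + 3 * q + q ^ 2 - q ^ 3 - q ^ 4 + q ^ 5 + 2 * q ^ 6 + q ^ 7) * (1 - q + q ^ 2) := by
    rw [hP]; ring
  have b8 : (1 : ℤ) = (-1 + q - q ^ 2) * P + (q + q ^ 4 + q ^ 7) * (1 + q ^ 4) := by
    rw [hP]; ring
  have b9 : (1 : ℤ) = (-1 + q - q ^ 2) * P + (q + q ^ 5) * (1 + q ^ 3 + q ^ 6) := by
    rw [hP]; ring
  have b12 : (2 : ℤ) = (-1 + q - q ^ 2) * P + (1 + q + q ^ 2 + q ^ 3 + q ^ 4 + q ^ 5 + q ^ 7) * (1 - q ^ 2 + q ^ 4) := by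
    rw [hP]; ring
  have h1 : P ∣ (-1 + q) ^ 6 * (1 + q) ^ 4 * (1 + q + q ^ 2) ^ 3 * (1 + q ^ 2) ^ 2 * (1 + q + q ^ 2 + q ^ 3 + q ^ 4) ^ 1 * (1 - q + q ^ 2) ^ 2 * (1 + q ^ 4) ^ 1 * (1 + q ^ 3 + q ^ 6) ^ 1 * (1 - q ^ 2 + q ^ 4) ^ 1 * q ^ 36 := by
    have e : (-1 + q) ^ 6 * (1 + q) ^ 4 * (1 + q + q ^ 2) ^ 3 * (1 + q ^ 2) ^ 2 * (1 + q + q ^ 2 + q ^ 3 + q ^ 4) ^ 1 * (1 - q + q ^ 2) ^ 2 * (1 + q ^ 4) ^ 1 * (1 + q ^ 3 + q ^ 6) ^ 1 * (1 - q ^ 2 + q ^ 4) ^ 1 * q ^ 36 = q ^ 36 * ((q ^ 2 - 1) * (q ^ 5 - 1) * (q ^ 6 - 1) * (q ^ 8 - 1) *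
        (q ^ 9 - 1) * (q ^ 12 - 1)) := by
      ring
    rw [e]
    exact h0
  replace h1 : P ∣ (5 : ℤ) ^ 6 * (1 + q) ^ 4 * (1 + q + q ^ 2) ^ 3 * (1 + q ^ 2) ^ 2 * (1 + q + q ^ 2 + q ^ 3 + q ^ 4) ^ 1 * (1 - q + q ^ 2) ^ 2 * (1 + q ^ 4) ^ 1 * (1 + q ^ 3 + q ^ 6) ^ 1 * (1 - q ^ 2 + q ^ 4) ^ 1 * q ^ 36 := by
    have := strip b1 (X := (1 + q) ^ 4 * (1 + q + q ^ 2) ^ 3 * (1 + q ^ 2) ^ 2 * (1 + q + q ^ 2 + q ^ 3 + q ^ 4) ^ 1 * (1 - q + q ^ 2) ^ 2 * (1 + q ^ 4) ^ 1 * (1 + q ^ 3 + q ^ 6) ^ 1 * (1 - q ^ 2 + q ^ 4) ^ 1 * q ^ 36) 6 (by convert h1 using 1; ring)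
    convert this using 1
    ring
  replace h1 : P ∣ (5 : ℤ) ^ 6 * (1 : ℤ) ^ 4 * (1 + q + q ^ 2) ^ 3 * (1 + q ^ 2) ^ 2 * (1 + q + q ^ 2 + q ^ 3 + q ^ 4) ^ 1 * (1 - q + q ^ 2) ^ 2 * (1 + q ^ 4) ^ 1 * (1 + q ^ 3 + q ^ 6) ^ 1 * (1 - q ^ 2 + q ^ 4) ^ 1 * q ^ 36 := by
    have := strip b2 (X := (5 : ℤ) ^ 6 * (1 + q + q ^ 2) ^ 3 * (1 + q ^ 2) ^ 2 * (1 + q + q ^ 2 + q ^ 3 + q ^ 4) ^ 1 * (1 - q + q ^ 2) ^ 2 * (1 + q ^ 4) ^ 1 * (1 + q ^ 3 + q ^ 6) ^ 1 * (1 - q ^ 2 + q ^ 4) ^ 1 * q ^ 36) 4 (by convert h1 using 1; ring)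
    convert this using 1
    ring
  replace h1 : P ∣ (5 : ℤ) ^ 6 * (1 : ℤ) ^ 4 * (2 : ℤ) ^ 3 * (1 + q ^ 2) ^ 2 * (1 + q + q ^ 2 + q ^ 3 + q ^ 4) ^ 1 * (1 - q + q ^ 2) ^ 2 * (1 + q ^ 4) ^ 1 * (1 + q ^ 3 + q ^ 6) ^ 1 * (1 - q ^ 2 + q ^ 4) ^ 1 * q ^ 36 := by
    have := strip b3 (X := (5 : ℤ) ^ 6 * (1 : ℤ) ^ 4 * (1 + q ^ 2) ^ 2 * (1 + q + q ^ 2 + q ^ 3 + q ^ 4) ^ 1 * (1 - q + q ^ 2) ^ 2 * (1 + q ^ 4) ^ 1 * (1 + q ^ 3 + q ^ 6) ^ 1 * (1 - q ^ 2 + q ^ 4) ^ 1 * q ^ 36) 3 (by convert h1 using 1; ring)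
    convert this using 1
    ring
  replace h1 : P ∣ (5 : ℤ) ^ 6 * (1 : ℤ) ^ 4 * (2 : ℤ) ^ 3 * (1 : ℤ) ^ 2 * (1 + q + q ^ 2 + q ^ 3 + q ^ 4) ^ 1 * (1 - q + q ^ 2) ^ 2 * (1 + q ^ 4) ^ 1 * (1 + q ^ 3 + q ^ 6) ^ 1 * (1 - q ^ 2 + q ^ 4) ^ 1 * q ^ 36 := by
    have := strip b4 (X := (5 : ℤ) ^ 6 * (1 : ℤ) ^ 4 * (2 : ℤ) ^ 3 * (1 + q + q ^ 2 + q ^ 3 + q ^ 4) ^ 1 * (1 - q + q ^ 2) ^ 2 * (1 + q ^ 4) ^ 1 * (1 + q ^ 3 + q ^ 6) ^ 1 * (1 - q ^ 2 + q ^ 4) ^ 1 * q ^ 36) 2 (by convert h1 using 1; ring)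
    convert this using 1
    ring
  replace h1 : P ∣ (5 : ℤ) ^ 6 * (1 : ℤ) ^ 4 * (2 : ℤ) ^ 3 * (1 : ℤ) ^ 2 * (5 : ℤ) ^ 1 * (1 - q + q ^ 2) ^ 2 * (1 + q ^ 4) ^ 1 * (1 + q ^ 3 + q ^ 6) ^ 1 * (1 - q ^ 2 + q ^ 4) ^ 1 * q ^ 36 := by
    have := strip b5 (X := (5 : ℤ) ^ 6 * (1 : ℤ) ^ 4 * (2 : ℤ) ^ 3 * (1 : ℤ) ^ 2 * (1 - q + q ^ 2) ^ 2 * (1 + q ^ 4) ^ 1 * (1 + q ^ 3 + q ^ 6) ^ 1 * (1 - q ^ 2 + q ^ 4) ^ 1 * q ^ 36) 1 (by convert h1 using 1; ring)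
    convert this using 1
    ring
  replace h1 : P ∣ (5 : ℤ) ^ 6 * (1 : ℤ) ^ 4 * (2 : ℤ) ^ 3 * (1 : ℤ) ^ 2 * (5 : ℤ) ^ 1 * (4 : ℤ) ^ 2 * (1 + q ^ 4) ^ 1 * (1 + q ^ 3 + q ^ 6) ^ 1 * (1 - q ^ 2 + q ^ 4) ^ 1 * q ^ 36 := by
    have := strip b6 (X := (5 : ℤ) ^ 6 * (1 : ℤ) ^ 4 * (2 : ℤ) ^ 3 * (1 : ℤ) ^ 2 * (5 : ℤ) ^ 1 * (1 + q ^ 4) ^ 1 * (1 + q ^ 3 + q ^ 6) ^ 1 * (1 - q ^ 2 + q ^ 4) ^ 1 * q ^ 36) 2 (by convert h1 using 1; ring)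
    convert this using 1
    ring
  replace h1 : P ∣ (5 : ℤ) ^ 6 * (1 : ℤ) ^ 4 * (2 : ℤ) ^ 3 * (1 : ℤ) ^ 2 * (5 : ℤ) ^ 1 * (4 : ℤ) ^ 2 * (1 : ℤ) ^ 1 * (1 + q ^ 3 + q ^ 6) ^ 1 * (1 - q ^ 2 + q ^ 4) ^ 1 * q ^ 36 := by
    have := strip b8 (X := (5 : ℤ) ^ 6 * (1 : ℤ) ^ 4 * (2 : ℤ) ^ 3 * (1 : ℤ) ^ 2 * (5 : ℤ) ^ 1 * (4 : ℤ) ^ 2 * (1 + q ^ 3 + q ^ 6) ^ 1 * (1 - q ^ 2 + q ^ 4) ^ 1 * q ^ 36) 1 (by convert h1 using 1; ring)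
    convert this using 1
    ring
  replace h1 : P ∣ (5 : ℤ) ^ 6 * (1 : ℤ) ^ 4 * (2 : ℤ) ^ 3 * (1 : ℤ) ^ 2 * (5 : ℤ) ^ 1 * (4 : ℤ) ^ 2 * (1 : ℤ) ^ 1 * (1 : ℤ) ^ 1 * (1 - q ^ 2 + q ^ 4) ^ 1 * q ^ 36 := by
    have := strip b9 (X := (5 : ℤ) ^ 6 * (1 : ℤ) ^ 4 * (2 : ℤ) ^ 3 * (1 : ℤ) ^ 2 * (5 : ℤ) ^ 1 * (4 : ℤ) ^ 2 * (1 : ℤ) ^ 1 * (1 - q ^ 2 + q ^ 4) ^ 1 * q ^ 36) 1 (by convert h1 using 1; ring)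
    convert this using 1
    ring
  replace h1 : P ∣ (5 : ℤ) ^ 6 * (1 : ℤ) ^ 4 * (2 : ℤ) ^ 3 * (1 : ℤ) ^ 2 * (5 : ℤ) ^ 1 * (4 : ℤ) ^ 2 * (1 : ℤ) ^ 1 * (1 : ℤ) ^ 1 * (2 : ℤ) ^ 1 * q ^ 36 := by
    have := strip b12 (X := (5 : ℤ) ^ 6 * (1 : ℤ) ^ 4 * (2 : ℤ) ^ 3 * (1 : ℤ) ^ 2 * (5 : ℤ) ^ 1 * (4 : ℤ) ^ 2 * (1 : ℤ) ^ 1 * (1 : ℤ) ^ 1 * q ^ 36) 1 (by convert h1 using 1; ring)
    convert this using 1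
    ring
  have hcop : IsCoprime P (q ^ 36) :=
    (show IsCoprime P q from ⟨-1, q + q ^ 2 + q ^ 3 + q ^ 4 + q ^ 7 + q ^ 8, by rw [hP]; ring⟩).pow_right
  have hfin := hcop.dvd_of_dvd_mul_right (show P ∣ (20000000 : ℤ) * q ^ 36 by
    convert h1 using 1
    norm_num)
  have h9 : (7 : ℤ) ^ 9 ≤ q ^ 9 := pow_le_pow_left₀ (by norm_num) hq' 9
  have hle := Int.le_of_dvd (by norm_num) hfin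
  have : q ^ 9 - 1 ≤ P := by
    rw [hP]
    have := pow_nonneg (show (0 : ℤ) ≤ q by omega)
    linarith [this 2, this 3, this 4, this 5, this 8]
  norm_num at h9
  linarith

theorem nLI_three {q n : ℕ} (hq : 1 ≤ q) (hn : 3 ≤ n) :
    (nLI q 3 n : ℤ) =
      ((q : ℤ) ^ n - 1) * ((q : ℤ) ^ n - q) * ((q : ℤ) ^ n - (q : ℤ) ^ 2) := by
  have h : ∀ i, i ≤ 3 → q ^ i ≤ q ^ n := fun i hi => Nat.pow_le_pow_right hq (hi.trans hn)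
  rw [nLI, Fin.prod_univ_three]
  simp only [Fin.val_zero, Fin.val_one, Fin.val_two]
  rw [Nat.cast_mul, Nat.cast_mul, Nat.cast_sub (h 0 (by norm_num)),
    Nat.cast_sub (h 1 (by norm_num)), Nat.cast_sub (h 2 (by norm_num))]
  push_cast
  ring

theorem nLI_two {q : ℕ} (hq : 1 ≤ q) :
    (nLI q 2 2 : ℤ) = ((q : ℤ) ^ 2 - 1) * ((q : ℤ) ^ 2 - q) := by
  have h : ∀ i, i ≤ 2 → q ^ i ≤ q ^ 2 := fun i hi => Nat.pow_le_pow_right hq hi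
  rw [nLI, Fin.prod_univ_two]
  simp only [Fin.val_zero, Fin.val_one]
  rw [Nat.cast_mul, Nat.cast_sub (h 0 (by norm_num)), Nat.cast_sub (h 1 (by norm_num))]
  push_cast
  ring

variable {q O s₃ : ℕ}

theorem sl3_eq (hq : 2 ≤ q) (h3 : (q - 1) * s₃ = nLI q 3 3) :
    (s₃ : ℤ) = (q : ℤ) ^ 3 * ((q : ℤ) ^ 3 - 1) * ((q : ℤ) ^ 2 - 1) := by
  have h := congrArg (fun x : ℕ => (x : ℤ)) h3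
  rw [Nat.cast_mul, Nat.cast_sub (by omega), nLI_three (by omega) le_rfl, Nat.cast_one] at h
  refine mul_left_cancel₀ (show ((q : ℤ) - 1) ≠ 0 by omega) ?_
  linear_combination h

theorem sl3_pos (hq : 2 ≤ q) : (q : ℤ) ^ 3 * ((q : ℤ) ^ 3 - 1) * ((q : ℤ) ^ 2 - 1) ≠ 0 := by
  have h : (2 : ℤ) ≤ q := by exact_mod_cast hq
  have h3 : (2 : ℤ) ^ 3 ≤ (q : ℤ) ^ 3 := pow_le_pow_left₀ (by norm_num) h 3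
  have h2 : (2 : ℤ) ^ 2 ≤ (q : ℤ) ^ 2 := pow_le_pow_left₀ (by norm_num) h 2
  norm_num at h2 h3
  exact mul_ne_zero (mul_ne_zero (by positivity) (by omega)) (by omega)

theorem gr_eq (hq : 2 ≤ q) (h3 : (q - 1) * s₃ = nLI q 3 3) (hO : O * s₃ = nLI q 3 6) :
    (O : ℤ) = ((q : ℤ) ^ 3 + 1) * ((q : ℤ) ^ 2 + 1) * ((q : ℤ) ^ 5 - 1) := by
  have h := congrArg (fun x : ℕ => (x : ℤ)) hO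
  rw [Nat.cast_mul, sl3_eq hq h3, nLI_three (by omega) (by norm_num)] at h
  refine mul_right_cancel₀ (sl3_pos hq) ?_
  linear_combination h

theorem contra {Fx Z2 : ℕ} (hq : 2 ≤ q) (h3 : (q - 1) * s₃ = nLI q 3 3) (hO : O * s₃ = nLI q 3 6)
    (hF : Fx * s₃ + q ^ 3 * nLI q 3 5 = nLI q 3 6 + q ^ 3 * nLI q 3 4)
    (hZ : Z2 * s₃ + 2 * (nLI q 3 3 * q ^ 9) = nLI q 3 6 + nLI q 3 3 * (nLI q 2 2 * q ^ 5))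
    (h : (O : ℤ) + ((q : ℤ) - 1) * Fx = (q : ℤ) * Z2 + ((q : ℤ) - 1) * (q : ℤ) ^ 9) : False := by
  have hs := sl3_eq hq h3
  have eO := congrArg (fun x : ℕ => (x : ℤ)) hO
  have eF := congrArg (fun x : ℕ => (x : ℤ)) hF
  have eZ := congrArg (fun x : ℕ => (x : ℤ)) hZ
  simp only [Nat.cast_mul, Nat.cast_add, Nat.cast_pow, Nat.cast_ofNat, hs, nLI_two (show 1 ≤ q by omega),
    nLI_three (show 1 ≤ q by omega) (show 3 ≤ 3 by norm_num),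
    nLI_three (show 1 ≤ q by omega) (show 3 ≤ 4 by norm_num),
    nLI_three (show 1 ≤ q by omega) (show 3 ≤ 5 by norm_num),
    nLI_three (show 1 ≤ q by omega) (show 3 ≤ 6 by norm_num)] at eO eF eZ
  have h0 : ((q : ℤ) ^ 5 * ((q : ℤ) - 1)) * ((q : ℤ) ^ 3 * ((q : ℤ) ^ 3 - 1) * ((q : ℤ) ^ 2 - 1)) = 0 := by
    linear_combination ((q : ℤ) ^ 3 * ((q : ℤ) ^ 3 - 1) * ((q : ℤ) ^ 2 - 1)) * h - eO -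
      ((q : ℤ) - 1) * eF + (q : ℤ) * eZ
  rcases mul_eq_zero.1 h0 with h1 | h1
  · rcases mul_eq_zero.1 h1 with h2 | h2
    · have : (q : ℤ) = 0 := eq_zero_of_pow_eq_zero h2
      omega
    · omega
  · exact sl3_pos hq h1

end Cfsg.Agent.E6Deg
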