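import Cfsg.Agent.E6Deg.Rep
import Cfsg.Agent.E6Deg.Arith
import Cfsg.Agent.Chev.WeylAll

/-!
The smallest nonlinear degree of `E₆(q)`.
-/

set_option autoImplicit false
set_option maxRecDepth 100000
set_option maxHeartbeats 1000000

namespace Cfsg.Agent.E6Deg

open Cfsg.Lie

universe u

theorem theta_eq {q : ℕ} (hq : 2 ≤ q) :
    (q ^ 6 - q) / (q - 1) = q ^ 5 + q ^ 4 + q ^ 3 + q ^ 2 + q := by
  refine Nat.div_eq_of_eq_mul_left (by omega) ?_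
  obtain ⟨n, rfl⟩ : ∃ n, q = n + 1 := ⟨q - 1, by omega⟩
  rw [Nat.add_sub_cancel]
  refine Nat.sub_eq_of_eq_add ?_
  ring

/-- The degree bounds. -/
theorem degree_cases {q O d₀ d₁ s m k : ℕ} (hq : 2 ≤ q)
    (hO : (O : ℤ) = ((q : ℤ) ^ 3 + 1) * ((q : ℤ) ^ 2 + 1) * ((q : ℤ) ^ 5 - 1))
    (hd : 1 ≤ d₁) (hs : d₁ * O + d₀ ≤ s) (hm : 1 ≤ m)
    (hk : k = s + (q - 1) * (q ^ 10 * m)) (hlt : k < q * (q ^ 6 + q ^ 3 + 1) * (q ^ 4 + 1)) :
    m = 1 ∧ d₁ = 1 ∧ d₀ ≤ (q ^ 6 - q) / (q - 1) := by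
  have hk' : (k : ℤ) = s + ((q : ℤ) - 1) * ((q : ℤ) ^ 10 * m) := by
    rw [hk, Nat.cast_add, Nat.cast_mul, Nat.cast_sub (by omega), Nat.cast_mul, Nat.cast_pow,
      Nat.cast_one]
  have hs' : (d₁ : ℤ) * O + d₀ ≤ s := by exact_mod_cast hs
  have hlt' : (k : ℤ) < (q : ℤ) * ((q : ℤ) ^ 6 + (q : ℤ) ^ 3 + 1) * ((q : ℤ) ^ 4 + 1) := by
    exact_mod_cast hlt
  have h2 : (2 : ℤ) ≤ q := by exact_mod_cast hq
  have hstep : ∀ e, 2 * (q : ℤ) ^ e ≤ (q : ℤ) ^ (e + 1) := fun e => by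
    rw [pow_succ']; exact mul_le_mul_of_nonneg_right h2 (by positivity)
  have hnn : ∀ e, (0 : ℤ) ≤ (q : ℤ) ^ e := fun e => by positivity
  have hO0 : (0 : ℤ) ≤ O := Int.natCast_nonneg O
  have hlead : ((q : ℤ) - 1) * (q : ℤ) ^ 10 * 1 ≤ ((q : ℤ) - 1) * ((q : ℤ) ^ 10 * m) := by
    rw [mul_assoc]
    exact mul_le_mul_of_nonneg_left
      (mul_le_mul_of_nonneg_left (by exact_mod_cast hm) (hnn 10)) (by omega)
  have hd' : (O : ℤ) ≤ (d₁ : ℤ) * O := le_mul_of_one_le_left hO0 (by exact_mod_cast hd)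
  have hm1 : m = 1 := by
    by_contra hne
    have : ((q : ℤ) - 1) * (q : ℤ) ^ 10 * 2 ≤ ((q : ℤ) - 1) * ((q : ℤ) ^ 10 * m) := by
      rw [mul_assoc]
      exact mul_le_mul_of_nonneg_left
        (mul_le_mul_of_nonneg_left (by exact_mod_cast (show 2 ≤ m by omega)) (hnn 10)) (by omega)
    nlinarith [hstep 0, hstep 1, hstep 2, hstep 3, hstep 4, hstep 5, hstep 6, hstep 7, hstep 8, hstep 9, hstep 10, hnn 0, hnn 1, hnn 2, hnn 3, hnn 4, hnn 5, hnn 6, hnn 7, hnn 8, hnn 9, hnn 10, hnn 11]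
  have hd1 : d₁ = 1 := by
    by_contra hne
    have : 2 * (O : ℤ) ≤ (d₁ : ℤ) * O :=
      mul_le_mul_of_nonneg_right (by exact_mod_cast (show 2 ≤ d₁ by omega)) hO0
    nlinarith [hstep 0, hstep 1, hstep 2, hstep 3, hstep 4, hstep 5, hstep 6, hstep 7, hstep 8, hstep 9, hstep 10, hnn 0, hnn 1, hnn 2, hnn 3, hnn 4, hnn 5, hnn 6, hnn 7, hnn 8, hnn 9, hnn 10, hnn 11]
  refine ⟨hm1, hd1, ?_⟩
  rw [theta_eq hq]
  subst hm1 hd1
  by_contra hne
  have : (q : ℤ) ^ 5 + (q : ℤ) ^ 4 + (q : ℤ) ^ 3 + (q : ℤ) ^ 2 + q + 1 ≤ d₀ := by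
    exact_mod_cast (show q ^ 5 + q ^ 4 + q ^ 3 + q ^ 2 + q + 1 ≤ d₀ by omega)
  nlinarith

theorem not_big {q s m k : ℕ} (hq : 2 ≤ q) (hm : 1 ≤ m) (hk : k = s + (q - 1) * (q ^ 10 * m))
    (hlt : k < q * (q ^ 6 + q ^ 3 + 1) * (q ^ 4 + 1)) : ¬ q ^ 9 * (q + 1) ≤ s := by
  intro hs
  have hk' : (k : ℤ) = s + ((q : ℤ) - 1) * ((q : ℤ) ^ 10 * m) := by
    rw [hk, Nat.cast_add, Nat.cast_mul, Nat.cast_sub (by omega), Nat.cast_mul, Nat.cast_pow,
      Nat.cast_one]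
  have hs' : (q : ℤ) ^ 9 * ((q : ℤ) + 1) ≤ s := by exact_mod_cast hs
  have hlt' : (k : ℤ) < (q : ℤ) * ((q : ℤ) ^ 6 + (q : ℤ) ^ 3 + 1) * ((q : ℤ) ^ 4 + 1) := by
    exact_mod_cast hlt
  have h2 : (2 : ℤ) ≤ q := by exact_mod_cast hq
  have hstep : ∀ e, 2 * (q : ℤ) ^ e ≤ (q : ℤ) ^ (e + 1) := fun e => by
    rw [pow_succ']; exact mul_le_mul_of_nonneg_right h2 (by positivity)
  have hlead : ((q : ℤ) - 1) * (q : ℤ) ^ 10 * 1 ≤ ((q : ℤ) - 1) * ((q : ℤ) ^ 10 * m) := by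
    rw [mul_assoc]
    exact mul_le_mul_of_nonneg_left
      (mul_le_mul_of_nonneg_left (by exact_mod_cast hm) (by positivity)) (by omega)
  have a8 : 2 * (q : ℤ) ^ 8 ≤ (q : ℤ) ^ 9 := hstep 8
  have a7 : 2 * (q : ℤ) ^ 7 ≤ (q : ℤ) ^ 8 := hstep 7
  have a6 : 2 * (q : ℤ) ^ 6 ≤ (q : ℤ) ^ 7 := hstep 6
  have a5 : 2 * (q : ℤ) ^ 5 ≤ (q : ℤ) ^ 6 := hstep 5
  have a4 : 2 * (q : ℤ) ^ 4 ≤ (q : ℤ) ^ 5 := hstep 4
  have a3 : 2 * (q : ℤ) ^ 3 ≤ (q : ℤ) ^ 4 := hstep 3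
  have a2 : 2 * (q : ℤ) ^ 2 ≤ (q : ℤ) ^ 3 := hstep 2
  have a1 : 2 * (q : ℤ) ^ 1 ≤ (q : ℤ) ^ 2 := hstep 1
  ring_nf at hk' hs' hlt' hlead a1
  linarith

variable {F : Type u} [Field F] [Fintype F]

/-- The bound. -/
theorem min_degree {k : ℕ} (ρ : Representation ℂ (Gp F) (Fin k → ℂ)) (hρ : ρ.IsIrreducible)
    (hk : 2 ≤ k) :
    Fintype.card F * (Fintype.card F ^ 6 + Fintype.card F ^ 3 + 1) * (Fintype.card F ^ 4 + 1) ≤ k := by
  classical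
  obtain ⟨s, m, hm, hks, hs, hqs, hck⟩ := basic ρ hρ hk
  set q := Fintype.card F with hqdef
  have hq2 : 2 ≤ q := Fintype.one_lt_card
  have hqC : (q : ℂ) ≠ 0 := Nat.cast_ne_zero.2 (by omega)
  set χ : Gp F → ℂ := ρ.character with hχ
  have hχ1 : χ 1 = (k : ℂ) := by
    rw [hχ, Representation.char_one, Module.finrank_pi, Fintype.card_fin]
  by_contra hcon
  have hlt : k < q * (q ^ 6 + q ^ 3 + 1) * (q ^ 4 + 1) := not_le.1 hcon
  have hsum : ∑ Λ, dd ρ Λ = s := sum_dd_total ρ hs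
  have hsmall : ¬ q ^ 9 * (q + 1) ≤ s := not_big hq2 hm hks hlt
  obtain ⟨Λ₁, hΛ₁, hd₁⟩ : ∃ Λ, Λ ≠ 0 ∧ 0 < dd ρ Λ := by
    by_contra hc
    push Not at hc
    have hz : ∀ g : ↥(HQ F), ∑ Λ, (dd ρ Λ : ℂ) * lamH (piQ F) Λ g = (s : ℂ) := fun g => by
      rw [Finset.sum_eq_single (0 : AddChar (Additive (QB F)) ℂ)]
      · rw [lamH, AddChar.zero_apply, mul_one, ← hsum,
          Finset.sum_eq_single (0 : AddChar (Additive (QB F)) ℂ)]
        · exact fun Λ _ hne => Nat.le_zero.1 (hc Λ hne)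
        · simp
      · intro Λ _ hne
        rw [Nat.le_zero.1 (hc Λ hne), Nat.cast_zero, zero_mul]
      · simp
    have h := sum_dd ρ ⟨xs 7 1, xs_mem 7 1⟩
    rw [hz, Finset.sum_congr rfl fun v _ => vanish_xs ρ 7 one_ne_zero v, Finset.sum_const,
      Finset.card_univ, nsmul_eq_mul, char_xs_seven ρ one_ne_zero] at h
    have h' := mul_left_cancel₀ hqC h
    rw [h'] at hqs
    exact hck (by linear_combination hqs)
  have hGr : ∀ Λ, Λ ≠ 0 → 0 < dd ρ Λ → BQ Λ ∈ Gr F := fun Λ h0 hd => by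
    by_contra hG
    exact hsmall (hsum ▸ orbit_large ρ h0 hd hG)
  -- the multiplicity
  set O := Nat.card {B : Fin 20 → F // B ∈ Gr F} with hOdef
  set s₃ := Nat.card (Matrix.SpecialLinearGroup (Fin 3) F) with hs3def
  have hO : O * s₃ = nLI q 3 6 := card_Gr
  have h3 : (q - 1) * s₃ = nLI q 3 3 := Classical.card_sl_mul rfl 3 (by norm_num)
  have hOz := gr_eq hq2 h3 hO
  have hgr : (grF F).card = O := by
    rw [← Finset.filter_true_of_mem (s := grF F) (p := fun _ => True) fun _ _ => trivial, card_grF, hOdef]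
    exact Nat.card_congr (Equiv.subtypeEquivRight fun B => and_iff_left trivial)
  have hreal : ∀ B ∈ Gr F, ∃ Λ, BQ Λ = B ∧ dd ρ Λ = dd ρ Λ₁ := fun B hB =>
    gr_realised ρ (hGr Λ₁ hΛ₁ hd₁) hB
  have hsle : dd ρ Λ₁ * O + dd ρ 0 ≤ s := by
    rw [← hsum, ← Finset.add_sum_erase _ _ (Finset.mem_univ (0 : AddChar (Additive (QB F)) ℂ)),
      add_comm (dd ρ 0)]
    refine Nat.add_le_add_right ?_ _
    have hinj : Set.InjOn (BQ (F := F)) Set.univ := fun a _ b _ h => BQ_injective h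
    calc dd ρ Λ₁ * O = ∑ _B ∈ grF F, dd ρ Λ₁ := by
          rw [Finset.sum_const, hgr, smul_eq_mul, mul_comm]
      _ = ∑ Λ ∈ (grF F).preimage BQ (hinj.mono (Set.subset_univ _)), dd ρ Λ₁ := by
          rw [Finset.sum_preimage BQ (grF F) _ (fun _ => dd ρ Λ₁) fun B hB hnot => ?_]
          obtain ⟨Λ, hΛ, -⟩ := hreal B (mem_grF.1 hB)
          exact absurd ⟨Λ, hΛ⟩ hnot
      _ = ∑ Λ ∈ (grF F).preimage BQ (hinj.mono (Set.subset_univ _)), dd ρ Λ := by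
          refine Finset.sum_congr rfl fun Λ hΛ => ?_
          obtain ⟨Λ', h1, h2⟩ := hreal _ (mem_grF.1 (Finset.mem_preimage.1 hΛ))
          rw [← BQ_injective h1, h2]
      _ ≤ _ := by
          refine Finset.sum_le_sum_of_subset fun Λ hΛ => Finset.mem_erase.2 ⟨?_, Finset.mem_univ _⟩
          rintro rfl
          have := mem_grF.1 (Finset.mem_preimage.1 hΛ)
          rw [BQ_zero] at this
          exact zero_not_mem_Gr this
  obtain ⟨hm1, hd1, hd0⟩ := degree_cases hq2 hOz hd₁ hsle hm hks hlt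
  subst hm1
  have hcl : ∀ Λ, Λ ≠ 0 → 0 < dd ρ Λ → BQ Λ ∈ Gr F ∧ dd ρ Λ = 1 := fun Λ h0 hd => by
    obtain ⟨Λ', h1, h2⟩ := hreal _ (hGr Λ h0 hd)
    exact ⟨hGr Λ h0 hd, by rw [← BQ_injective h1, h2, hd1]⟩
  have hex : ∀ B ∈ Gr F, ∃ Λ, BQ Λ = B ∧ dd ρ Λ = 1 := fun B hB => by
    obtain ⟨Λ', h1, h2⟩ := hreal B hB
    exact ⟨Λ', h1, h2.trans hd1⟩
  have hsO : (s : ℂ) = (dd ρ 0 : ℂ) + (O : ℂ) := by
    have h := sum_char ρ hcl hex (fun _ => 1) (fun Λ => (dd ρ Λ : ℂ)) (mul_one _).symm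
      (fun Λ _ h => by rw [h, Nat.cast_one]) (fun Λ h => by rw [h, Nat.cast_zero])
    rw [Finset.sum_const, hgr, nsmul_eq_mul, mul_one, mul_one] at h
    rw [← h, ← hsum, Nat.cast_sum]
  set d₀ := dd ρ 0 with hd0def
  rcases Nat.lt_or_ge d₀ ((q ^ 6 - q) / (q - 1)) with hd0' | hd0'
  swap
  · -- one less than the bound
    have he : d₀ = q ^ 5 + q ^ 4 + q ^ 3 + q ^ 2 + q := by
      rw [← theta_eq hq2]; omega
    have hkB : (k : ℤ) = BZ q - 1 := by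
      have hsO' : (s : ℤ) = (d₀ : ℤ) + (O : ℤ) := by exact_mod_cast hsO
      rw [hks, Nat.cast_add, Nat.cast_mul, Nat.cast_sub (by omega : 1 ≤ q), hsO', hOz, he]
      unfold BZ
      push_cast
      ring
    refine not_dvd_order hq2 (hkB ▸ ?_)
    have hdvd : k ∣ Nat.card (Gp F) :=
      Char.IsIrr.degree_dvd_card (Char.isIrrCharacter_of_rep ρ hρ) hχ1
    have hcard := Chev.e6_card_group F
    rw [← hqdef] at hcard
    have h36 : k ∣ q ^ 36 * (([2, 5, 6, 8, 9, 12] : List ℕ).map fun e => q ^ e - 1).prod :=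
      hcard ▸ hdvd.mul_left _
    have h36' := Int.natCast_dvd_natCast.2 h36
    have hpos : ∀ e, 1 ≤ q ^ e := fun e => Nat.one_le_pow _ _ (by omega)
    simp only [List.map_cons, List.map_nil, List.prod_cons, List.prod_nil, mul_one, Nat.cast_mul,
      Nat.cast_pow, Nat.cast_sub (hpos _), Nat.cast_one] at h36'
    convert h36' using 1
    ring
  -- counting with the test element
  set Fx := Nat.card {B : Fin 20 → F // B ∈ Gr F ∧ FixB B} with hFxdef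
  set Z2 := Nat.card {B : Fin 20 → F // B ∈ Gr F ∧ B 0 = 0 ∧ B 7 = 0} with hZ2def
  have hFix0 : FixB (0 : Fin 20 → F) := fun n => by
    cases opTgt 1 2 n with
    | none => rfl
    | some x => obtain ⟨a, b⟩ := x; simp [ev]
  have hleft : ∀ t : F, t ≠ 0 →
      ∑ v, χ (xl 1 2 t * zz v) = (q : ℂ) * ((d₀ : ℂ) + Fx) := by
    intro t ht
    have h := trace_sum ρ (xl 1 2 t) 1
    simp only [lamH_one, one_mul, Subgroup.coe_one] at h
    rw [← h]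
    obtain ⟨t0, tz, tG⟩ := trace_test ρ hd0' ht
    congr 1
    rw [sum_char ρ hcl hex (fun B => if FixB B then 1 else 0)
      (fun Λ => LinearMap.trace ℂ _ (ρ (xl 1 2 t) * PP ρ Λ)) (by rw [if_pos hFix0, mul_one, t0])
      (fun Λ hG h1 => by
        split_ifs with hf
        · exact (tG Λ hG h1).1 hf
        · exact (tG Λ hG h1).2 hf)
      tz, if_pos hFix0, mul_one, Finset.sum_boole, card_grF, hFxdef]
  have hright : ∑ u, ∑ w, χ (xs (0 : Fin 20) u * xs 7 w) =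
      (q : ℂ) ^ 2 * ((d₀ : ℂ) + Z2) - s + k := by
    have hone : xs 0 (0 : F) * xs 7 0 = (1 : Gp F) := by
      rw [xs, xs, mul_zero, mul_zero, xx_zero, xx_zero, one_mul]
    have hv : ∀ p : F × F, p ≠ 0 →
        ∑ v, χ (xs 0 p.1 * xs 7 p.2 * zz v) = (q : ℂ) * χ (xs 0 p.1 * xs 7 p.2) := by
      intro p hp
      have hne : p.1 ≠ 0 ∨ p.2 ≠ 0 := by
        by_contra hn
        push Not at hn
        exact hp (Prod.ext hn.1 hn.2)
      rw [Finset.sum_congr rfl fun v _ => vanish_two ρ hne v, Finset.sum_const, Finset.card_univ,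
        nsmul_eq_mul]
    have h1 : ∑ p : F × F, ∑ v, χ (xs 0 p.1 * xs 7 p.2 * zz v) =
        (q : ℂ) * s + (q : ℂ) * (∑ p : F × F, χ (xs 0 p.1 * xs 7 p.2) - k) := by
      rw [← Finset.add_sum_erase _ _ (Finset.mem_univ (0 : F × F)),
        ← Finset.add_sum_erase _ (fun p : F × F => χ (xs 0 p.1 * xs 7 p.2)) (Finset.mem_univ (0 : F × F))]
      simp only [Prod.fst_zero, Prod.snd_zero, hone, one_mul, hχ1, add_sub_cancel_left, Finset.mul_sum]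
      rw [hs, Finset.sum_congr rfl fun p hp => hv p (Finset.ne_of_mem_erase hp)]
    have h2 : ∑ p : F × F, ∑ v, χ (xs 0 p.1 * xs 7 p.2 * zz v) =
        (q : ℂ) * ((q : ℂ) ^ 2 * ((d₀ : ℂ) + Z2)) := by
      rw [Finset.sum_congr rfl fun (p : F × F) _ =>
        (sum_dd ρ ⟨xs 0 p.1 * xs 7 p.2, mul_mem (xs_mem 0 p.1) (xs_mem 7 p.2)⟩).symm]
      rw [← Finset.mul_sum, Finset.sum_comm]
      congr 1
      have hΛ : ∀ Λ : AddChar (Additive (QB F)) ℂ,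
          ∑ p : F × F, (dd ρ Λ : ℂ) *
            lamH (piQ F) Λ ⟨xs 0 p.1 * xs 7 p.2, mul_mem (xs_mem 0 p.1) (xs_mem 7 p.2)⟩ =
          (dd ρ Λ : ℂ) * if BQ Λ 0 = 0 ∧ BQ Λ 7 = 0 then (q : ℂ) ^ 2 else 0 := by
        intro Λ
        rw [← Finset.mul_sum]
        congr 1
        have e : ∀ p : F × F,
            lamH (piQ F) Λ ⟨xs 0 p.1 * xs 7 p.2, mul_mem (xs_mem 0 p.1) (xs_mem 7 p.2)⟩ =
              psi F (p.1 * BQ Λ 0) * psi F (p.2 * BQ Λ 7) := fun p => by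
          rw [mul_comm p.1, mul_comm p.2, ← BQ_spec, ← BQ_spec, ← lamH_mul]
          rfl
        rw [Finset.sum_congr rfl fun p _ => e p, Fintype.sum_prod_type]
        simp only []
        rw [← Finset.sum_mul_sum, AddChar.sum_mulShift _ (psi_prim F), AddChar.sum_mulShift _ (psi_prim F)]
        by_cases h0 : BQ Λ 0 = 0 <;> by_cases h7 : BQ Λ 7 = 0 <;> simp [h0, h7, ← hqdef, pow_two]
      rw [Finset.sum_congr rfl fun Λ _ => hΛ Λ]
      rw [sum_char ρ hcl hex (fun B => if B 0 = 0 ∧ B 7 = 0 then (q : ℂ) ^ 2 else 0) _ ?_ ?_ ?_,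
        ← Finset.sum_filter, Finset.sum_const, card_grF, nsmul_eq_mul, ← hZ2def]
      · simp only [Pi.zero_apply, and_self, if_true]
        ring
      · rw [BQ_zero]
      · intro Λ _ h1
        rw [h1, Nat.cast_one, one_mul]
      · intro Λ h
        rw [h, Nat.cast_zero, zero_mul]
    rw [h2] at h1
    rw [Fintype.sum_prod_type] at h1
    refine mul_left_cancel₀ hqC ?_
    linear_combination -h1
  obtain ⟨g, c, d, hc, hd, hg1, hg2⟩ := exists_weyl (F := F)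
  have hswap : ∑ t, ∑ v, χ (xl 1 2 t * zz v) = ∑ u, ∑ w, χ (xs (0 : Fin 20) u * xs 7 w) := by
    refine Fintype.sum_equiv (Equiv.mulLeft₀ c hc) _ _ fun t => ?_
    refine Fintype.sum_equiv (Equiv.mulLeft₀ d hd) _ _ fun v => ?_
    rw [Equiv.mulLeft₀_apply, Equiv.mulLeft₀_apply, ← hg1, ← hg2, hχ, ← ρ.char_conj (xl 1 2 t * zz v) g]
    congr 1
    group
  have hl : ∑ t, ∑ v, χ (xl 1 2 t * zz v) =
      (q : ℂ) * s + ((q : ℂ) - 1) * ((q : ℂ) * ((d₀ : ℂ) + Fx)) := by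
    rw [← Finset.add_sum_erase _ _ (Finset.mem_univ (0 : F)),
      Finset.sum_congr rfl fun t ht => hleft t (Finset.ne_of_mem_erase ht), Finset.sum_const,
      Finset.card_erase_of_mem (Finset.mem_univ _), Finset.card_univ, nsmul_eq_mul,
      Nat.cast_sub (by omega : 1 ≤ q), Nat.cast_one]
    congr 1
    have e1 : xl 1 2 (0 : F) = 1 := by rw [xl, mul_zero, xx_zero]
    rw [Finset.sum_congr rfl fun v _ => by rw [e1, one_mul]]
    exact hs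
  have hkC : (k : ℂ) = s + ((q : ℂ) - 1) * ((q : ℂ) ^ 10) := by
    rw [hks, mul_one, Nat.cast_add, Nat.cast_mul, Nat.cast_sub (by omega : 1 ≤ q), Nat.cast_one,
      Nat.cast_pow]
  have hfin : ((O : ℤ) + ((q : ℤ) - 1) * Fx) = (q : ℤ) * Z2 + ((q : ℤ) - 1) * (q : ℤ) ^ 9 := by
    have h : (q : ℂ) * ((O : ℂ) + ((q : ℂ) - 1) * Fx) =
        (q : ℂ) * ((q : ℂ) * Z2 + ((q : ℂ) - 1) * (q : ℂ) ^ 9) := by
      rw [hswap, hright] at hl
      linear_combination -hl + hkC - (q : ℂ) * hsO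
    have h' := mul_left_cancel₀ hqC h
    exact_mod_cast h'
  exact contra hq2 h3 hO card_fix card_z2 hfin

end Cfsg.Agent.E6Deg
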