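import Cfsg.Agent.E6Deg.Grass

/-!
Numbers of decomposable trivectors with given vanishing coordinates.
-/

set_option autoImplicit false
set_option maxRecDepth 100000

namespace Cfsg.Agent.E6Deg

open Matrix

universe u

variable {F : Type u} [Field F] [Fintype F] [DecidableEq F]

/-- The number of independent `k`-tuples in dimension `n`. -/
def nLI (q k n : ℕ) : ℕ := ∏ i : Fin k, (q ^ n - q ^ (i : ℕ))

omit [DecidableEq F] in
theorem card_li {k n : ℕ} (hk : k ≤ n) :
    Nat.card {M : Matrix (Fin k) (Fin n) F // LinearIndependent F M.row} =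
      nLI (Fintype.card F) k n := by
  have h := card_linearIndependent (K := F) (V := Fin n → F) (k := k)
    (by rw [Module.finrank_fin_fun]; exact hk)
  rw [Module.finrank_fin_fun] at h
  exact h

theorem card_det_ne {n : ℕ} :
    Nat.card {A : Matrix (Fin n) (Fin n) F // A.det ≠ 0} = nLI (Fintype.card F) n n := by
  rw [← card_li (F := F) le_rfl]
  refine Nat.card_congr (Equiv.subtypeEquivRight fun A => ?_)
  rw [Matrix.linearIndependent_rows_iff_isUnit, Matrix.isUnit_iff_isUnit_det, isUnit_iff_ne_zero]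

theorem card_split {α : Type*} [Finite α] (P Q : α → Prop) :
    Nat.card {x // P x ∧ Q x} + Nat.card {x // P x ∧ ¬ Q x} = Nat.card {x // P x} := by
  classical
  have := Fintype.ofFinite α
  simp only [Nat.card_eq_fintype_card, Fintype.card_subtype, ← Finset.filter_filter]
  exact Finset.card_filter_add_card_filter_not _

/-- Fibres of the coordinate map. -/
theorem card_fibred (P : (Fin 20 → F) → Prop) :
    Nat.card {M : Matrix (Fin 3) (Fin 6) F // LI M ∧ P (p M)} =
      Nat.card {B : Fin 20 → F // B ∈ Gr F ∧ P B} * Nat.card (SpecialLinearGroup (Fin 3) F) := by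
  classical
  rw [← Nat.card_prod]
  refine (Nat.card_congr (Equiv.ofBijective
    (fun x : {B : Fin 20 → F // B ∈ Gr F ∧ P B} × SpecialLinearGroup (Fin 3) F =>
      (⟨x.2.1 * Classical.choose x.1.2.1, ?_⟩ : {M : Matrix (Fin 3) (Fin 6) F // LI M ∧ P (p M)}))
    ⟨?_, ?_⟩)).symm
  · obtain ⟨hli, hp⟩ := Classical.choose_spec x.1.2.1
    refine ⟨li_sl_mul hli x.2, ?_⟩
    rw [p_mul, x.2.2, one_smul, hp]
    exact x.1.2.2
  · rintro ⟨⟨B, hB⟩, s⟩ ⟨⟨B', hB'⟩, t⟩ h
    have h1 := congrArg Subtype.val h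
    obtain ⟨hli, hp⟩ := Classical.choose_spec hB.1
    obtain ⟨-, hp'⟩ := Classical.choose_spec hB'.1
    have h2 := congrArg p h1
    simp only [p_mul, s.2, t.2, one_smul, hp, hp'] at h2
    subst h2
    exact Prod.ext rfl (sl_mul_injective hli h1)
  · rintro ⟨M, hM, hP⟩
    have hB : p M ∈ Gr F := ⟨M, hM, rfl⟩
    obtain ⟨hli, hp⟩ := Classical.choose_spec hB
    obtain ⟨s, hs⟩ := fibre hli hp.symm
    exact ⟨(⟨p M, hB, hP⟩, s), Subtype.ext hs.symm⟩

theorem card_Gr :
    Nat.card {B : Fin 20 → F // B ∈ Gr F} * Nat.card (SpecialLinearGroup (Fin 3) F) =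
      nLI (Fintype.card F) 3 6 := by
  have h := card_fibred (F := F) fun _ => True
  rw [← card_li (F := F) (k := 3) (n := 6) (by norm_num)]
  simpa [LI] using h.symm

/-! ### Deleting a column -/

/-- Splitting off a column. -/
def colEquiv {n : ℕ} (c : Fin (n + 1)) :
    Matrix (Fin 3) (Fin (n + 1)) F ≃ (Fin 3 → F) × Matrix (Fin 3) (Fin n) F where
  toFun M := (fun r => M r c, M.submatrix id c.succAbove)
  invFun x := Matrix.of fun r => Fin.insertNth c (x.1 r) (x.2 r)
  left_inv M := by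
    ext r j
    rcases Fin.eq_self_or_eq_succAbove c j with h | ⟨j', h⟩ <;> subst h <;> simp
  right_inv x := by
    refine Prod.ext (funext fun r => ?_) (Matrix.ext fun r j => ?_) <;> simp

omit [Fintype F] [DecidableEq F] in
theorem li_of_sub {m n : ℕ} {M : Matrix (Fin 3) (Fin n) F} (f : Fin m → Fin n)
    (h : LI (M.submatrix id f)) : LI M := by
  rw [li_iff] at h ⊢
  exact fun y hy => h y (funext fun j => congrFun hy (f j))

omit [Fintype F] [DecidableEq F] in
theorem li_sub_iff {n : ℕ} {M : Matrix (Fin 3) (Fin (n + 1)) F} {c : Fin (n + 1)}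
    (hc : (fun r => M r c) = 0) : LI (M.submatrix id c.succAbove) ↔ LI M := by
  refine ⟨li_of_sub _, fun h => ?_⟩
  rw [li_iff] at h ⊢
  refine fun y hy => h y (funext fun j => ?_)
  rcases Fin.eq_self_or_eq_succAbove c j with e | ⟨j', e⟩ <;> subst e
  · show y ⬝ᵥ (fun r => M r j) = 0
    rw [hc, dotProduct_zero]
  · exact congrFun hy j'

/-- The matrices whose coordinates are fixed by the test transvection. -/
def FixM (M : Matrix (Fin 3) (Fin 6) F) : Prop :=
  (∀ r, M r 1 = 0) ∨ ¬ LI (M.submatrix id (Fin.succAbove (2 : Fin 6)))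

omit [DecidableEq F] in
theorem card_cols {n : ℕ} (c : Fin (n + 1)) (P : Matrix (Fin 3) (Fin n) F → Prop) :
    Nat.card {M : Matrix (Fin 3) (Fin (n + 1)) F // P (M.submatrix id c.succAbove)} =
      Fintype.card F ^ 3 * Nat.card {N : Matrix (Fin 3) (Fin n) F // P N} := by
  have h3 : Nat.card (Fin 3 → F) = Fintype.card F ^ 3 := by simp [Nat.card_eq_fintype_card]
  rw [← h3, ← Nat.card_prod]
  exact Nat.card_congr (((colEquiv c).subtypeEquiv (q := fun x => P x.2) fun M => Iff.rfl).trans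
    { toFun := fun x => (x.1.1, ⟨x.1.2, x.2⟩)
      invFun := fun x => ⟨(x.1, x.2.1), x.2.2⟩
      left_inv := fun _ => rfl
      right_inv := fun _ => rfl })

omit [DecidableEq F] in
theorem card_col_zero {n : ℕ} (hn : 3 ≤ n) (c : Fin (n + 1)) :
    Nat.card {M : Matrix (Fin 3) (Fin (n + 1)) F // LI M ∧ ∀ r, M r c = 0} =
      nLI (Fintype.card F) 3 n := by
  rw [← card_li (F := F) hn]
  have hcol : ∀ (N : Matrix (Fin 3) (Fin n) F) (r : Fin 3), (colEquiv c).symm (0, N) r c = 0 :=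
    fun N r => by simp [colEquiv]
  have hsub : ∀ N : Matrix (Fin 3) (Fin n) F,
      ((colEquiv c).symm (0, N)).submatrix id c.succAbove = N := fun N =>
    congrArg Prod.snd ((colEquiv c).apply_symm_apply ((0 : Fin 3 → F), N))
  refine Nat.card_congr
    { toFun := fun x => ⟨x.1.submatrix id c.succAbove, (li_sub_iff (funext x.2.2)).2 x.2.1⟩
      invFun := fun N => ⟨(colEquiv c).symm (0, N.1),
        (li_sub_iff (funext (hcol N.1))).1 (by rw [hsub]; exact N.2), hcol N.1⟩
      left_inv := fun x => Subtype.ext ?_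
      right_inv := fun N => Subtype.ext (hsub N.1) }
  refine (colEquiv c).injective ?_
  rw [Equiv.apply_symm_apply]
  exact Prod.ext (funext fun r => (x.2.2 r).symm) rfl

omit [DecidableEq F] in
theorem card_fixM :
    Nat.card {M : Matrix (Fin 3) (Fin 6) F // LI M ∧ FixM M} +
      Fintype.card F ^ 3 * nLI (Fintype.card F) 3 5 =
      nLI (Fintype.card F) 3 6 + Fintype.card F ^ 3 * nLI (Fintype.card F) 3 4 := by
  classical
  have h1 := card_split (α := Matrix (Fin 3) (Fin 6) F) LI FixM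
  have h2 := card_split (α := Matrix (Fin 3) (Fin 5) F) LI (fun N => ∀ r, N r 1 = 0)
  have hc : (2 : Fin 6).succAbove 1 = 1 := by decide
  have e1 : Nat.card {M : Matrix (Fin 3) (Fin 6) F // LI M ∧ ¬ FixM M} =
      Fintype.card F ^ 3 * Nat.card {N : Matrix (Fin 3) (Fin 5) F // LI N ∧ ¬ ∀ r, N r 1 = 0} := by
    rw [← card_cols (2 : Fin 6)]
    refine Nat.card_congr (Equiv.subtypeEquivRight fun M => ?_)
    simp only [FixM, not_or, not_not, Matrix.submatrix_apply, id_eq, hc]
    exact ⟨fun h => ⟨h.2.2, h.2.1⟩, fun h => ⟨li_of_sub _ h.1, h.2, h.1⟩⟩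
  rw [e1] at h1
  rw [card_col_zero (F := F) (by norm_num) (1 : Fin 5)] at h2
  have e6 : Nat.card {M : Matrix (Fin 3) (Fin 6) F // LI M} = nLI (Fintype.card F) 3 6 :=
    card_li (by norm_num)
  have e5 : Nat.card {M : Matrix (Fin 3) (Fin 5) F // LI M} = nLI (Fintype.card F) 3 5 :=
    card_li (by norm_num)
  rw [e6] at h1
  rw [e5] at h2
  rw [← h2, ← h1]
  ring

/-- The coordinates fixed by the test transvection. -/
def FixB (B : Fin 20 → F) : Prop := ∀ n, ev B (opTgt 1 2 n) = 0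

omit [Fintype F] in
theorem fixB_of_fixM {M : Matrix (Fin 3) (Fin 6) F} (h : FixM M) : FixB (p M) := by
  intro n
  unfold opTgt
  cases hx : (List.finRange 3).find? (fun x => tri n x == 2) with
  | none => rfl
  | some x =>
    show ev (p M) (tsg (Function.update (tri n) x 1)) = 0
    rw [← det_cols]
    have hxj : tri n x = 2 := by simpa using List.find?_some hx
    rcases h with h | h
    · exact det_eq_zero_of_column_eq_zero x fun r => by simp [h]
    · rw [li_iff] at h
      push Not at h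
      obtain ⟨y, hy, hy0⟩ := h
      refine exists_vecMul_eq_zero_iff.1 ⟨y, hy0, funext fun b => ?_⟩
      have hne : Function.update (tri n) x 1 b ≠ 2 := by
        by_cases hb : b = x
        · subst hb; simp
        · rw [Function.update_of_ne hb]
          exact fun e => hb (tri_inj n b x (e.trans hxj.symm))
      obtain ⟨b', hb'⟩ := Fin.exists_succAbove_eq hne
      have := congrFun hy b'
      show y ⬝ᵥ (fun r => M r (Function.update (tri n) x 1 b)) = 0
      rw [← hb']
      exact this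

omit [Fintype F] in
theorem fixM_of_fixB {M : Matrix (Fin 3) (Fin 6) F} (hM : LI M) (h : FixB (p M)) : FixM M := by
  unfold FixM
  by_contra hc
  push Not at hc
  obtain ⟨⟨a, ha⟩, hli⟩ := hc
  obtain ⟨s, hs⟩ := fibre hM (M' := M * Matrix.transvection (1 : Fin 6) 2 (1 : F)) (by
    rw [p_mul_transvection M (by decide) 1]
    funext n
    simp [op, h n])
  let z : Fin 3 → F := fun b => s.1 a b - (1 : Matrix (Fin 3) (Fin 3) F) a b
  have hz : ∀ j, (z ᵥ* M) j = if j = 2 then M a 1 else 0 := by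
    intro j
    have h1 := congrFun (congrFun hs a) j
    rw [Matrix.transvection, Matrix.mul_add, Matrix.mul_one, Matrix.add_apply] at h1
    have h2 : (z ᵥ* M) j = (s.1 * M) a j - M a j := by
      show ((fun b => s.1 a b) - fun b => (1 : Matrix (Fin 3) (Fin 3) F) a b) ⬝ᵥ (fun b => M b j) = _
      rw [sub_dotProduct]
      congr 1
      show ((1 : Matrix (Fin 3) (Fin 3) F) * M) a j = M a j
      rw [Matrix.one_mul]
    rw [h2, ← h1, add_sub_cancel_left]
    by_cases hj : j = 2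
    · subst hj; rw [if_pos rfl, Matrix.mul_single_apply_same, mul_one]
    · rw [if_neg hj, Matrix.mul_single_apply_of_ne _ _ _ _ _ hj]
  have hz0 : z = 0 := by
    rw [li_iff] at hli
    refine hli z (funext fun j => ?_)
    exact (hz _).trans (if_neg (Fin.succAbove_ne _ _))
  have := hz 2
  rw [hz0, zero_vecMul, Pi.zero_apply, if_pos rfl] at this
  exact ha this.symm

theorem card_fix :
    Nat.card {B : Fin 20 → F // B ∈ Gr F ∧ FixB B} * Nat.card (SpecialLinearGroup (Fin 3) F) +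
      Fintype.card F ^ 3 * nLI (Fintype.card F) 3 5 =
      nLI (Fintype.card F) 3 6 + Fintype.card F ^ 3 * nLI (Fintype.card F) 3 4 := by
  rw [← card_fibred, ← card_fixM (F := F)]
  congr 1
  exact Nat.card_congr (Equiv.subtypeEquivRight fun M =>
    ⟨fun h => ⟨h.1, fixM_of_fixB h.1 h.2⟩, fun h => ⟨h.1, fixB_of_fixM h.2⟩⟩)

/-! ### Two coordinates -/

/-- The left and the right half. -/
def halves : Matrix (Fin 3) (Fin 6) F ≃ Matrix (Fin 3) (Fin 3) F × Matrix (Fin 3) (Fin 3) F where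
  toFun M := (M.submatrix id (tri 0), M.submatrix id (tri 19))
  invFun x := Matrix.of fun r => Fin.append (x.1 r) (x.2 r)
  left_inv M := by ext r j; fin_cases j <;> rfl
  right_inv x := by
    refine Prod.ext (Matrix.ext fun r j => ?_) (Matrix.ext fun r j => ?_) <;> fin_cases j <;> rfl

/-- The entries of the lower left corner, and the others. -/
def corner : Matrix (Fin 3) (Fin 3) F ≃ Matrix (Fin 2) (Fin 2) F × (Fin 5 → F) where
  toFun N := (!![N 1 0, N 1 1; N 2 0, N 2 1], ![N 0 0, N 0 1, N 0 2, N 1 2, N 2 2])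
  invFun x := !![x.2 0, x.2 1, x.2 2; x.1 0 0, x.1 0 1, x.2 3; x.1 1 0, x.1 1 1, x.2 4]
  left_inv N := by ext r j; fin_cases r <;> fin_cases j <;> rfl
  right_inv x := by
    refine Prod.ext (Matrix.ext fun r j => ?_) (funext fun j => ?_)
    · fin_cases r <;> fin_cases j <;> rfl
    · fin_cases j <;> rfl

omit [Fintype F] [DecidableEq F] in
theorem p_seven (A N : Matrix (Fin 3) (Fin 3) F) :
    p (halves.symm (A, A * N)) 7 = A.det * (corner N).1.det := by
  have h : (halves.symm (A, A * N)).submatrix id (tri 7) =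
      A * !![1, N 0 0, N 0 1; 0, N 1 0, N 1 1; 0, N 2 0, N 2 1] := by
    ext r j
    fin_cases j <;>
      simp [halves, tri, Matrix.mul_apply, Fin.sum_univ_three, Fin.append, Fin.addCases]
  rw [p, h, det_mul, det_fin_two]
  congr 1
  rw [det_fin_three]
  simp [corner]

omit [Fintype F] [DecidableEq F] in
theorem p_zero_halves (x : Matrix (Fin 3) (Fin 3) F × Matrix (Fin 3) (Fin 3) F) :
    p (halves.symm x) 0 = x.1.det := by
  show (halves (halves.symm x)).1.det = _
  rw [Equiv.apply_symm_apply]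

theorem card_both :
    Nat.card {M : Matrix (Fin 3) (Fin 6) F // p M 0 ≠ 0 ∧ p M 7 ≠ 0} =
      nLI (Fintype.card F) 3 3 * (nLI (Fintype.card F) 2 2 * Fintype.card F ^ 5) := by
  classical
  rw [← card_det_ne, ← card_det_ne, show Fintype.card F ^ 5 = Nat.card (Fin 5 → F) by
    simp [Nat.card_eq_fintype_card], ← Nat.card_prod, ← Nat.card_prod]
  refine (Nat.card_congr (Equiv.ofBijective
    (fun x : {A : Matrix (Fin 3) (Fin 3) F // A.det ≠ 0} ×
        {A : Matrix (Fin 2) (Fin 2) F // A.det ≠ 0} × (Fin 5 → F) =>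
      (⟨halves.symm (x.1.1, x.1.1 * corner.symm (x.2.1.1, x.2.2)), ?_⟩ :
        {M : Matrix (Fin 3) (Fin 6) F // p M 0 ≠ 0 ∧ p M 7 ≠ 0})) ⟨?_, ?_⟩)).symm
  · rw [p_zero_halves, p_seven, Equiv.apply_symm_apply]
    exact ⟨x.1.2, mul_ne_zero x.1.2 x.2.1.2⟩
  · rintro ⟨⟨A, hA⟩, ⟨C, hC⟩, v⟩ ⟨⟨A', hA'⟩, ⟨C', hC'⟩, v'⟩ h
    have h1 := halves.symm.injective (congrArg Subtype.val h)
    obtain ⟨rfl, h2⟩ := Prod.ext_iff.1 h1
    have hu : IsUnit A.det := isUnit_iff_ne_zero.2 hA
    have h3 := congrArg (fun X => A⁻¹ * X) h2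
    simp only [Matrix.nonsing_inv_mul_cancel_left _ _ hu] at h3
    obtain ⟨rfl, rfl⟩ := Prod.ext_iff.1 (corner.symm.injective h3)
    rfl
  · rintro ⟨M, h0, h7⟩
    obtain ⟨⟨A, R⟩, rfl⟩ := halves.symm.surjective M
    rw [p_zero_halves] at h0
    have hu : IsUnit A.det := isUnit_iff_ne_zero.2 h0
    have hR : R = A * (A⁻¹ * R) := (Matrix.mul_nonsing_inv_cancel_left _ _ hu).symm
    rw [hR, p_seven] at h7
    refine ⟨(⟨A, h0⟩, ⟨_, right_ne_zero_of_mul h7⟩, (corner (A⁻¹ * R)).2), Subtype.ext ?_⟩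
    show halves.symm (A, A * corner.symm ((corner (A⁻¹ * R)).1, (corner (A⁻¹ * R)).2)) = _
    rw [Prod.mk.eta, Equiv.symm_apply_apply, ← hR]

theorem card_p_zero :
    Nat.card {M : Matrix (Fin 3) (Fin 6) F // p M 0 ≠ 0} =
      nLI (Fintype.card F) 3 3 * Fintype.card F ^ 9 := by
  rw [← card_det_ne, show Fintype.card F ^ 9 = Nat.card (Matrix (Fin 3) (Fin 3) F) by
    rw [show Matrix (Fin 3) (Fin 3) F = (Fin 3 → Fin 3 → F) from rfl]
    simp [Nat.card_eq_fintype_card, ← pow_mul], ← Nat.card_prod]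
  exact Nat.card_congr ((halves.subtypeEquiv
    (q := fun x : Matrix (Fin 3) (Fin 3) F × Matrix (Fin 3) (Fin 3) F => x.1.det ≠ 0) fun M => Iff.rfl).trans
    { toFun := fun x => (⟨x.1.1, x.2⟩, x.1.2)
      invFun := fun x => ⟨(x.1.1, x.2), x.1.2⟩
      left_inv := fun _ => rfl
      right_inv := fun _ => rfl })

omit [Fintype F] [DecidableEq F] in
theorem card_p_seven :
    Nat.card {M : Matrix (Fin 3) (Fin 6) F // p M 7 ≠ 0} =
      Nat.card {M : Matrix (Fin 3) (Fin 6) F // p M 0 ≠ 0} := by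
  let σ : Equiv.Perm (Fin 6) := Equiv.swap 1 3 * Equiv.swap 2 4
  have hσ : σ ∘ tri 0 = tri 7 := by decide +kernel
  refine Nat.card_congr ((Matrix.reindex (Equiv.refl (Fin 3)) σ.symm).subtypeEquiv fun M => ?_)
  show p M 7 ≠ 0 ↔ ((M.submatrix id σ.symm.symm).submatrix id (tri 0)).det ≠ 0
  rw [Equiv.symm_symm, Matrix.submatrix_submatrix, hσ]
  rfl

theorem card_z2 :
    Nat.card {B : Fin 20 → F // B ∈ Gr F ∧ B 0 = 0 ∧ B 7 = 0} *
        Nat.card (SpecialLinearGroup (Fin 3) F) +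
      2 * (nLI (Fintype.card F) 3 3 * Fintype.card F ^ 9) =
    nLI (Fintype.card F) 3 6 +
      nLI (Fintype.card F) 3 3 * (nLI (Fintype.card F) 2 2 * Fintype.card F ^ 5) := by
  classical
  rw [← card_fibred (fun B => B 0 = 0 ∧ B 7 = 0), ← card_both, ← card_p_zero]
  have h1 := card_split (α := Matrix (Fin 3) (Fin 6) F) LI (fun M => p M 0 = 0)
  have h2 := card_split (α := Matrix (Fin 3) (Fin 6) F) (fun M => LI M ∧ p M 0 = 0) (fun M => p M 7 = 0)
  have h3 := card_split (α := Matrix (Fin 3) (Fin 6) F) (fun M => p M 7 ≠ 0) (fun M => p M 0 = 0)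
  have e : Nat.card {M : Matrix (Fin 3) (Fin 6) F // LI M} = nLI (Fintype.card F) 3 6 :=
    card_li (by norm_num)
  have a1 : Nat.card {M : Matrix (Fin 3) (Fin 6) F // LI M ∧ ¬ p M 0 = 0} =
      Nat.card {M : Matrix (Fin 3) (Fin 6) F // p M 0 ≠ 0} :=
    Nat.card_congr (Equiv.subtypeEquivRight fun M => ⟨fun h => h.2, fun h => ⟨li_of_p_ne h, h⟩⟩)
  have a2 : Nat.card {M : Matrix (Fin 3) (Fin 6) F // (LI M ∧ p M 0 = 0) ∧ ¬ p M 7 = 0} =
      Nat.card {M : Matrix (Fin 3) (Fin 6) F // p M 7 ≠ 0 ∧ p M 0 = 0} :=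
    Nat.card_congr (Equiv.subtypeEquivRight fun M =>
      ⟨fun h => ⟨h.2, h.1.2⟩, fun h => ⟨⟨li_of_p_ne h.1, h.2⟩, h.1⟩⟩)
  have a3 : Nat.card {M : Matrix (Fin 3) (Fin 6) F // p M 7 ≠ 0 ∧ ¬ p M 0 = 0} =
      Nat.card {M : Matrix (Fin 3) (Fin 6) F // p M 0 ≠ 0 ∧ p M 7 ≠ 0} :=
    Nat.card_congr (Equiv.subtypeEquivRight fun M => and_comm)
  have a4 : Nat.card {M : Matrix (Fin 3) (Fin 6) F // LI M ∧ p M 0 = 0 ∧ p M 7 = 0} =
      Nat.card {M : Matrix (Fin 3) (Fin 6) F // (LI M ∧ p M 0 = 0) ∧ p M 7 = 0} :=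
    Nat.card_congr (Equiv.subtypeEquivRight fun M => and_assoc.symm)
  rw [a4]
  rw [e, a1] at h1
  rw [a2] at h2
  rw [a3, card_p_seven] at h3
  omega

end Cfsg.Agent.E6Deg
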