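import Cfsg.Agent.E6Deg.Grass

/-!
A closed set of nonzero trivectors meets the decomposable ones or is large.
-/

set_option autoImplicit false
set_option maxRecDepth 100000

namespace Cfsg.Agent.E6Deg

open Matrix

universe u

theorem lower_tgt : ∀ n : Fin 20, n ≠ 0 → ∃ n', n' < n ∧ ∃ i j, i ≠ j ∧
    (opTgt i j n' = some (n, 1) ∨ opTgt i j n' = some (n, -1)) := by
  decide +kernel

/-- The coordinates of rank two. -/
def idx2 (k : Fin 9) : Fin 20 := ![1, 2, 3, 4, 5, 6, 10, 11, 12] k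

/-- The first index of the translations. -/
def tI (k : Fin 9) : Fin 6 := ![2, 2, 2, 1, 1, 1, 0, 0, 0] k

/-- The second index of the translations. -/
def tJ (k : Fin 9) : Fin 6 := ![3, 4, 5, 3, 4, 5, 3, 4, 5] k

/-- The sign of the translations. -/
def sg2 (k : Fin 9) : ℤ := ((opTgt (tI k) (tJ k) (idx2 k)).map Prod.snd).getD 0

theorem tI_ne : ∀ k, tI k ≠ tJ k := by decide +kernel

theorem sg2_cases : ∀ k, sg2 k = 1 ∨ sg2 k = -1 := by decide +kernel

theorem opTgt_trans : ∀ k, opTgt (tI k) (tJ k) 0 = none ∧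
    ∀ l, opTgt (tI k) (tJ k) (idx2 l) = if k = l then some (0, sg2 k) else none := by
  decide +kernel

/-- The coordinates of rank one. -/
def idx1 (a P : Fin 3) : Fin 20 := ![![7, 8, 9], ![13, 14, 15], ![16, 17, 18]] a P

/-- The first three indices. -/
def lft (a : Fin 3) : Fin 6 := Fin.castLE (by norm_num) a

theorem lft_ne : ∀ a b : Fin 3, a ≠ b → lft a ≠ lft b := by decide +kernel

theorem opTgt_block : ∀ a b : Fin 3, a ≠ b → opTgt (lft a) (lft b) 0 = none ∧
    (∀ l, ∀ x ∈ opTgt (lft a) (lft b) (idx2 l), ∃ m, x.1 = idx2 m) ∧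
    ∀ c P, opTgt (lft a) (lft b) (idx1 c P) = if c = b then some (idx1 a P, 1) else none := by
  decide +kernel

theorem opTgt_low : (∀ x ∈ opTgt 3 0 0, ∃ m, x.1 = idx2 m) ∧
    (∀ l, ∀ x ∈ opTgt 3 0 (idx2 l), ∃ a P, x.1 = idx1 a P) ∧
    opTgt 3 0 (idx1 0 2) = some (19, 1) := by
  decide +kernel

theorem cover : ∀ n : Fin 20, n = 0 ∨ n = 19 ∨ (∃ l, n = idx2 l) ∨ ∃ a P, n = idx1 a P := by
  decide +kernel

theorem others : ∀ i : Fin 3, ∃ j k : Fin 3, j ≠ i ∧ k ≠ i ∧ j ≠ k := by decide +kernel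

variable {F : Type u} [Field F]

/-- Closed under the operations. -/
def OpClosed (S : Set (Fin 20 → F)) : Prop :=
  ∀ i j, i ≠ j → ∀ c, ∀ B ∈ S, op i j c B ∈ S

theorem sg_ne {s : ℤ} (h : s = 1 ∨ s = -1) : (s : F) ≠ 0 := by
  rcases h with rfl | rfl <;> simp

theorem exists_top {S : Set (Fin 20 → F)} (hS : OpClosed S) :
    ∀ (n : Fin 20), ∀ B ∈ S, B n ≠ 0 → ∃ B' ∈ S, B' 0 ≠ 0 := by
  intro n
  induction n using WellFoundedLT.induction with
  | _ n ih =>
    intro B hB hn
    by_cases h0 : n = 0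
    · exact ⟨B, hB, h0 ▸ hn⟩
    obtain ⟨n', hlt, i, j, hij, h⟩ := lower_tgt n h0
    by_cases hn' : B n' = 0
    · refine ih n' hlt (op i j 1 B) (hS i j hij 1 B hB) ?_
      rcases h with h | h <;> simp [op, h, ev, hn', hn]
    · exact ih n' hlt B hB hn'

/-- The composite translation. -/
def trv (t : Fin 9 → F) : List (Fin 9) → (Fin 20 → F) → Fin 20 → F
  | [], B => B
  | k :: l, B => op (tI k) (tJ k) (t k) (trv t l B)

theorem trv_mem {S : Set (Fin 20 → F)} (hS : OpClosed S) (t : Fin 9 → F) :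
    ∀ l, ∀ B ∈ S, trv t l B ∈ S
  | [], _, h => h
  | k :: l, B, h => hS _ _ (tI_ne k) _ _ (trv_mem hS t l B h)

theorem trv_injective (t : Fin 9 → F) : ∀ l, Function.Injective (trv t l)
  | [] => fun _ _ h => h
  | k :: l => fun _ _ h => trv_injective t l (op_injective (tI_ne k) _ h)

theorem trv_zero (t : Fin 9 → F) (B : Fin 20 → F) : ∀ l, trv t l B 0 = B 0
  | [] => rfl
  | k :: l => by
    show op (tI k) (tJ k) (t k) (trv t l B) 0 = B 0
    simp [op, (opTgt_trans k).1, ev, trv_zero t B l]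

theorem trv_idx (t : Fin 9 → F) (B : Fin 20 → F) (m : Fin 9) : ∀ l : List (Fin 9), l.Nodup →
    trv t l B (idx2 m) = B (idx2 m) + if m ∈ l then t m * ((sg2 m : F) * B 0) else 0
  | [], _ => by simp [trv]
  | k :: l, h => by
    rw [List.nodup_cons] at h
    show op (tI k) (tJ k) (t k) (trv t l B) (idx2 m) = _
    rw [op, trv_idx t B m l h.2, (opTgt_trans k).2 m]
    by_cases hk : k = m
    · subst hk
      rw [if_pos rfl, if_neg h.1, if_pos List.mem_cons_self]
      simp [ev, trv_zero]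
    · rw [if_neg hk]
      simp [ev, List.mem_cons, Ne.symm hk]

theorem trv_all (t : Fin 9 → F) (B : Fin 20 → F) (m : Fin 9) :
    trv t (List.finRange 9) B (idx2 m) = B (idx2 m) + t m * ((sg2 m : F) * B 0) := by
  rw [trv_idx t B m _ (List.nodup_finRange 9), if_pos (List.mem_finRange m)]

/-- The points with a given first coordinate and no coordinate of rank two. -/
def Norm (S : Set (Fin 20 → F)) (α : F) : Set (Fin 20 → F) :=
  {B | B ∈ S ∧ B 0 = α ∧ ∀ l, B (idx2 l) = 0}

theorem block_norm {S : Set (Fin 20 → F)} (hS : OpClosed S) {α : F} {B : Fin 20 → F}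
    (hB : B ∈ Norm S α) {a b : Fin 3} (hab : a ≠ b) (c : F) :
    op (lft a) (lft b) c B ∈ Norm S α := by
  obtain ⟨h0, h2, -⟩ := opTgt_block a b hab
  refine ⟨hS _ _ (lft_ne a b hab) c B hB.1, by simp [op, h0, ev, hB.2.1], fun l => ?_⟩
  simp only [op]
  cases h : opTgt (lft a) (lft b) (idx2 l) with
  | none => simp [ev, hB.2.2]
  | some x =>
    obtain ⟨m, hm⟩ := h2 l x (by rw [h]; rfl)
    obtain ⟨x, s⟩ := x
    subst hm
    simp [ev, hB.2.2]

theorem block_idx1 (B : Fin 20 → F) {a b : Fin 3} (hab : a ≠ b) (c : F) (d P : Fin 3) :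
    op (lft a) (lft b) c B (idx1 d P) =
      B (idx1 d P) + if d = b then c * B (idx1 a P) else 0 := by
  simp only [op, (opTgt_block a b hab).2.2 d P]
  split_ifs <;> simp [ev]

variable [Fintype F] [DecidableEq F]

theorem card_norm {S : Set (Fin 20 → F)} (hS : OpClosed S) {α : F} {B : Fin 20 → F}
    (hB : B ∈ Norm S α) {i P : Fin 3} (hne : B (idx1 i P) ≠ 0) :
    Fintype.card F + 1 ≤ Nat.card (Norm S α) := by
  classical
  obtain ⟨j, k, hj, hk, hjk⟩ := others i
  let f : Option F → Norm S α := fun x => match x with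
    | some c => ⟨op (lft i) (lft j) c B, block_norm hS hB hj.symm c⟩
    | none => ⟨op (lft i) (lft k) 1 B, block_norm hS hB hk.symm 1⟩
  have hf : Function.Injective f := by
    intro x y h
    have hj' := congrFun (congrArg Subtype.val h) (idx1 j P)
    have hk' := congrFun (congrArg Subtype.val h) (idx1 k P)
    match x, y with
    | none, none => rfl
    | none, some c =>
      exfalso
      simp only [f, block_idx1 B hj.symm, block_idx1 B hk.symm, if_pos, if_neg hjk.symm] at hk'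
      simp [hne] at hk'
    | some c, none =>
      exfalso
      simp only [f, block_idx1 B hj.symm, block_idx1 B hk.symm, if_pos, if_neg hjk.symm] at hk'
      simp [hne] at hk'
    | some c, some d =>
      simp only [f, block_idx1 B hj.symm, if_pos, add_right_inj] at hj'
      rw [mul_left_inj' hne] at hj'
      rw [hj']
  have := Nat.card_le_card_of_injective f hf
  rwa [Nat.card_eq_fintype_card (α := Option F), Fintype.card_option] at this

omit [Fintype F] in
theorem single_mem_Gr {B : Fin 20 → F} (h0 : B 0 ≠ 0) (h : ∀ n, n ≠ 0 → B n = 0) : B ∈ Gr F := by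
  refine ⟨(Matrix.diagonal ![B 0, 1, 1] : Matrix (Fin 3) (Fin 3) F) * (M₀ : Matrix (Fin 3) (Fin 6) F), ?_, ?_⟩
  · refine li_of_p_ne (n := 0) ?_
    rw [p_mul, Pi.smul_apply, p_M₀_zero]
    simpa [Fin.prod_univ_three] using h0
  · funext n
    rw [p_mul, Pi.smul_apply, det_diagonal, Fin.prod_univ_three]
    by_cases hn : n = 0
    · subst hn; simp [p_M₀_zero]
    · rw [h n hn]
      obtain ⟨b, hb⟩ : ∃ b, 3 ≤ (tri n b : ℕ) := by
        revert n
        decide +kernel
      have : p (M₀ : Matrix (Fin 3) (Fin 6) F) n = 0 :=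
        det_eq_zero_of_column_eq_zero b fun r => if_neg (by have := r.2; simp only [id_eq]; omega)
      simp [this]

/-- The dichotomy. -/
theorem dichotomy {S : Set (Fin 20 → F)} (hS : OpClosed S) {B : Fin 20 → F} (hB : B ∈ S)
    (hne : B ≠ 0) :
    (∃ B' ∈ S, B' ∈ Gr F) ∨ Fintype.card F ^ 9 * (Fintype.card F + 1) ≤ Nat.card S := by
  classical
  obtain ⟨n, hn⟩ := Function.ne_iff.1 hne
  obtain ⟨B₁, hB₁, h1⟩ := exists_top hS n B hB hn
  set α := B₁ 0 with hα
  have hsα : ∀ m, (sg2 m : F) * α ≠ 0 := fun m => mul_ne_zero (sg_ne (sg2_cases m)) h1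
  set t : Fin 9 → F := fun m => -B₁ (idx2 m) / ((sg2 m : F) * α) with ht
  have hB₂ : trv t (List.finRange 9) B₁ ∈ Norm S α := by
    refine ⟨trv_mem hS t _ _ hB₁, trv_zero t B₁ _, fun l => ?_⟩
    rw [trv_all, ← hα, ht, div_mul_cancel₀ _ (hsα l), add_neg_cancel]
  set B₂ := trv t (List.finRange 9) B₁ with hB₂d
  have large : ∀ {B₃}, B₃ ∈ Norm S α → ∀ i P, B₃ (idx1 i P) ≠ 0 →
      Fintype.card F ^ 9 * (Fintype.card F + 1) ≤ Nat.card S := by
    intro B₃ h3 i P hne3
    let g : (Fin 9 → F) × Norm S α → S := fun x =>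
      ⟨trv x.1 (List.finRange 9) x.2.1, trv_mem hS _ _ _ x.2.2.1⟩
    have hg : Function.Injective g := by
      rintro ⟨a, X⟩ ⟨b, Y⟩ h
      have h' := congrArg Subtype.val h
      have hab : a = b := funext fun m => by
        have := congrFun h' (idx2 m)
        simp only [g] at this
        rw [trv_all, trv_all, X.2.2.2, Y.2.2.2, zero_add, zero_add, X.2.2.1, Y.2.2.1] at this
        exact mul_right_cancel₀ (hsα m) this
      subst hab
      exact Prod.ext rfl (Subtype.ext (trv_injective a _ h'))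
    have h := Nat.card_le_card_of_injective g hg
    rw [Nat.card_prod, Nat.card_fun, Nat.card_eq_fintype_card (α := Fin 9), Fintype.card_fin,
      Nat.card_eq_fintype_card (α := F)] at h
    exact le_trans (Nat.mul_le_mul_left _ (card_norm hS h3 hne3)) h
  by_cases hr1 : ∃ i P, B₂ (idx1 i P) ≠ 0
  · obtain ⟨i, P, h⟩ := hr1
    exact Or.inr (large hB₂ i P h)
  push Not at hr1
  by_cases h19 : B₂ 19 = 0
  · refine Or.inl ⟨B₂, hB₂.1, single_mem_Gr (by rw [hB₂.2.1]; exact h1) fun m hm => ?_⟩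
    rcases cover m with h | h | ⟨l, rfl⟩ | ⟨a, P, rfl⟩
    · exact absurd h hm
    · rw [h, h19]
    · exact hB₂.2.2 l
    · exact hr1 a P
  · obtain ⟨hA, hC, hD⟩ := opTgt_low
    refine Or.inr (large (B₃ := op 3 0 1 B₂) ⟨hS _ _ (by decide) 1 _ hB₂.1, ?_, fun l => ?_⟩ 0 2 ?_)
    · simp only [op]
      cases h : opTgt 3 0 0 with
      | none => simp [ev, hB₂.2.1]
      | some x =>
        obtain ⟨m, hm⟩ := hA x (by rw [h]; rfl)
        obtain ⟨x, s⟩ := x
        subst hm
        simp [ev, hB₂.2.1, hB₂.2.2]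
    · simp only [op]
      cases h : opTgt 3 0 (idx2 l) with
      | none => simp [ev, hB₂.2.2]
      | some x =>
        obtain ⟨a, P, hm⟩ := hC l x (by rw [h]; rfl)
        obtain ⟨x, s⟩ := x
        subst hm
        simp [ev, hB₂.2.2, hr1]
    · simp [op, hD, ev, hr1, h19]

end Cfsg.Agent.E6Deg
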