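import Cfsg.Agent.E6Deg.Grass
import Cfsg.Agent.Chev.All
import Cfsg.Agent.Chev.BNpair
import Cfsg.Agent.Chev.TopRoot
import Cfsg.Agent.Chev.Lift

/-!
Elements of `E₆(q)` in the maximal parabolic subgroup of the highest root.
-/

set_option autoImplicit false
set_option maxRecDepth 100000

namespace Cfsg.Agent.E6Deg

open Cfsg.Lie Cfsg.Agent.Chev
open scoped MatrixGroups commutatorElement

universe u

/-- The roots of the Levi subgroup. -/
def rLTab : List ℕ := [0, 56, 57, 58, 59, 60, 15, 0, 42, 43, 44, 45, 14, 29, 0, 39, 40, 41, 13, 28, 32, 0, 37, 38, 12, 27, 31, 34, 0, 36, 11, 26, 30, 33, 35, 0]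

/-- Their signs. -/
def eLTab : List ℤ := [1, 1, 1, 1, 1, 1, 1, 1, -1, -1, -1, -1, 1, -1, 1, -1, -1, -1, 1, -1, -1, 1, -1, -1, 1, -1, -1, -1, 1, -1, 1, -1, -1, -1, -1, 1]

/-- The roots of the radical. -/
def rQTab : List ℕ := [70, 69, 68, 67, 66, 65, 64, 63, 62, 61, 55, 54, 53, 52, 51, 50, 49, 48, 47, 46]

/-- Their signs. -/
def eQTab : List ℤ := [1, -1, 1, -1, 1, -1, 1, 1, -1, 1, -1, 1, -1, -1, 1, -1, 1, -1, 1, -1]

/-- The root of a transvection. -/
def rL (i j : Fin 6) : ℕ := rLTab.getD (i.1 * 6 + j.1) 0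

/-- The sign of a transvection. -/
def eL (i j : Fin 6) : ℤ := eLTab.getD (i.1 * 6 + j.1) 1

/-- The root of a coordinate. -/
def rQ (S : Fin 20) : ℕ := rQTab.getD S.1 0

/-- The sign of a coordinate. -/
def eQ (S : Fin 20) : ℤ := eQTab.getD S.1 1

/-- The pairing of complementary coordinates. -/
def cQ (S : Fin 20) : ℤ :=
  -((((chevE6.commTerms (rQ S) (rQ S.rev)).head?).map fun c => c.2.1).getD 0) * eQ S * eQ S.rev

/-- Two roots with commuting root groups. -/
def cOK (r s : ℕ) : Bool :=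
  decide (r < chevE6.nroots ∧ s < chevE6.nroots ∧
    (s = r ∨ (s ≠ chevE6.neg r ∧ chevE6.commTerms r s = [])))

/-- A one-term commutator. -/
def oneOK (r s k : ℕ) (C : ℤ) : Bool :=
  decide (r < chevE6.nroots ∧ s < chevE6.nroots ∧ s ≠ r ∧ s ≠ chevE6.neg r ∧
    chevE6.commTerms r s = [(k, C, 1, 1)])

theorem chk_comm : ∀ i j k l : Fin 6, i ≠ j → k ≠ l → j ≠ k → i ≠ l →
    cOK (rL k l) (rL i j) = true := by
  decide +kernel

theorem chk_rel : ∀ i j k : Fin 6, i ≠ j → j ≠ k → i ≠ k →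
    oneOK (rL j k) (rL i j) (rL i k) (-(eL i k * eL j k * eL i j)) = true := by
  decide +kernel

theorem chk_conj_none : ∀ i j : Fin 6, ∀ S : Fin 20, i ≠ j → opTgt i j S = none →
    cOK (rQ S) (rL i j) = true := by
  decide +kernel

theorem chk_conj_some : ∀ i j : Fin 6, ∀ S : Fin 20, i ≠ j → ∀ x ∈ opTgt i j S,
    oneOK (rQ S) (rL i j) (rQ x.1) (-(eQ x.1 * x.2 * eQ S * eL i j)) = true := by
  decide +kernel

theorem chk_Q : ∀ S S' : Fin 20, S' ≠ S.rev → cOK (rQ S) (rQ S') = true := by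
  decide +kernel

theorem chk_pair : ∀ S : Fin 20,
    oneOK (rQ S) (rQ S.rev) 71 (-(cQ S * eQ S * eQ S.rev)) = true ∧ (cQ S = 1 ∨ cQ S = -1) := by
  decide +kernel

theorem chk_top : (∀ S : Fin 20, cOK (rQ S) 71 = true) ∧
    (∀ i j : Fin 6, i ≠ j → cOK (rL i j) 71 = true) := by
  decide +kernel

theorem chk_sign : (∀ S, eQ S = 1 ∨ eQ S = -1) ∧ ∀ i j, eL i j = 1 ∨ eL i j = -1 := by
  decide +kernel

variable (F : Type u) [Field F]

/-- The group. -/
abbrev Gp := ↥(chevE6.group F)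

variable {F}

/-- A root element. -/
noncomputable def xx (r : ℕ) (t : F) : Gp F :=
  ⟨xG facts_chevE6 r t, xG_mem_group facts_chevE6 r t⟩

/-- A transvection of the Levi subgroup. -/
noncomputable def xl (i j : Fin 6) (a : F) : Gp F := xx (rL i j) ((eL i j : F) * a)

/-- A root element of the radical. -/
noncomputable def xs (S : Fin 20) (u : F) : Gp F := xx (rQ S) ((eQ S : F) * u)

/-- A root element of the highest root. -/
noncomputable def zz (v : F) : Gp F := xx 71 v

theorem xx_add (r : ℕ) (a b : F) : xx r (a + b) = xx r a * xx r b :=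
  Subtype.ext (xG_mul facts_chevE6 r a b).symm

theorem xx_zero (r : ℕ) : xx r (0 : F) = 1 := Subtype.ext (xG_zero facts_chevE6 r)

theorem xl_add (i j : Fin 6) (a b : F) : xl i j (a + b) = xl i j a * xl i j b := by
  rw [xl, mul_add, xx_add]; rfl

theorem xs_add (S : Fin 20) (a b : F) : xs S (a + b) = xs S a * xs S b := by
  rw [xs, mul_add, xx_add]; rfl

theorem zz_add (a b : F) : zz (a + b) = zz a * zz b := xx_add 71 a b

theorem zz_zero : zz (0 : F) = 1 := xx_zero 71

theorem xx_commute {r s : ℕ} (h : cOK r s = true) (t v : F) : Commute (xx s v) (xx r t) := by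
  simp only [cOK, decide_eq_true_eq] at h
  exact Subtype.ext (xG_commute_of facts_chevE6 h.1 h.2.1 h.2.2 t v).eq

theorem xx_one_term {r s k : ℕ} {C : ℤ} (h : oneOK r s k C = true) (t v : F) :
    xx s v * xx r t = xx r t * xx s v * xx k ((C : F) * (-t) * v) := by
  simp only [oneOK, decide_eq_true_eq] at h
  obtain ⟨hr, hs, hsr, hsn, hct⟩ := h
  refine Subtype.ext ?_
  have hc := xG_comm facts_chevE6 hr hs hsr hsn t v
  rw [ChevalleyDatum.commWord, hct] at hc
  simpa [wordG, xx] using hc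

theorem sign_sq {s : ℤ} (h : s = 1 ∨ s = -1) : (s : F) * (s : F) = 1 := by
  rcases h with rfl | rfl <;> simp

theorem xl_comm (i j k l : Fin 6) (hij : i ≠ j) (hkl : k ≠ l) (hjk : j ≠ k) (hil : i ≠ l)
    (a b : F) : Commute (xl i j a) (xl k l b) :=
  xx_commute (chk_comm i j k l hij hkl hjk hil) _ _

theorem xl_rel (i j k : Fin 6) (hij : i ≠ j) (hjk : j ≠ k) (hik : i ≠ k) (a b : F) :
    ⁅xl i j a, xl j k b⁆ = xl i k (a * b) := by
  have e : xl i j a * xl j k b = xl j k b * xl i j a * xl i k (a * b) := by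
    rw [xl, xl, xx_one_term (chk_rel i j k hij hjk hik)]
    unfold xl
    congr 2
    push_cast
    linear_combination (eL i k : F) * (eL i j : F) * (eL i j : F) * (a * b) *
      sign_sq (F := F) (chk_sign.2 j k) + (eL i k : F) * (a * b) * sign_sq (F := F) (chk_sign.2 i j)
  have c1 := xl_comm i j i k hij hik hij.symm hik a (a * b)
  have c2 := xl_comm j k i k hjk hik hik.symm hjk b (a * b)
  rw [commutatorElement_def, e, mul_assoc (xl j k b), c1.eq, ← mul_assoc, mul_inv_cancel_right, c2.eq,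
    mul_inv_cancel_right]

/-- The signed coordinate element. -/
noncomputable def xsO : Option (Fin 20 × ℤ) → F → Gp F
  | none, _ => 1
  | some (m, s), w => xs m ((s : F) * w)

theorem xl_conj (i j : Fin 6) (hij : i ≠ j) (S : Fin 20) (a u : F) :
    xl i j a * xs S u * (xl i j a)⁻¹ = xs S u * xsO (opTgt i j S) (a * u) := by
  cases h : opTgt i j S with
  | none =>
    rw [xsO, mul_one, xl, xs, (xx_commute (chk_conj_none i j S hij h) _ _).eq, mul_inv_cancel_right]
  | some x =>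
    have hx := chk_conj_some i j S hij x (by rw [h]; rfl)
    have hm := chk_conj_none i j x.1 hij (opTgt_twice i j S hij x (by rw [h]; rfl))
    obtain ⟨m, s⟩ := x
    have hC : Commute (xl i j a) (xs m ((s : F) * (a * u))) := xx_commute hm _ _
    have e : xl i j a * xs S u = xs S u * xl i j a * xs m ((s : F) * (a * u)) := by
      rw [xl, xs, xx_one_term hx]
      unfold xs
      congr 2
      push_cast
      linear_combination (eQ m : F) * (s : F) * (eL i j : F) * (eL i j : F) * (a * u) *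
        sign_sq (F := F) (chk_sign.1 S) +
        (eQ m : F) * (s : F) * (a * u) * sign_sq (F := F) (chk_sign.2 i j)
    rw [e, mul_assoc (xs S u), hC.eq, ← mul_assoc, mul_inv_cancel_right]
    rfl

theorem xs_commute {S S' : Fin 20} (h : S' ≠ S.rev) (u v : F) : Commute (xs S' v) (xs S u) :=
  xx_commute (chk_Q S S' h) _ _

theorem zz_commute_xs (S : Fin 20) (u v : F) : Commute (zz v) (xs S u) :=
  xx_commute (chk_top.1 S) _ _

theorem zz_commute_xl {i j : Fin 6} (hij : i ≠ j) (a v : F) : Commute (zz v) (xl i j a) :=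
  xx_commute (chk_top.2 i j hij) _ _

theorem xs_pair (S : Fin 20) (u v : F) :
    xs S.rev v * xs S u * (xs S.rev v)⁻¹ = xs S u * zz ((cQ S : F) * u * v) := by
  have e : xs S.rev v * xs S u = xs S u * xs S.rev v * zz ((cQ S : F) * u * v) := by
    rw [xs, xs, xx_one_term (chk_pair S).1]
    unfold zz
    congr 2
    push_cast
    linear_combination (cQ S : F) * (eQ S.rev : F) * (eQ S.rev : F) * (u * v) *
      sign_sq (F := F) (chk_sign.1 S) +
      (cQ S : F) * (u * v) * sign_sq (F := F) (chk_sign.1 S.rev)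
  rw [e, mul_assoc (xs S u), ← (zz_commute_xs S.rev v _).eq, ← mul_assoc, mul_inv_cancel_right]

theorem cQ_ne (S : Fin 20) : (cQ S : F) ≠ 0 := by
  rcases (chk_pair S).2 with h | h <;> simp [h]

theorem zz_eq_one_iff {v : F} : zz v = 1 ↔ v = 0 := by
  refine ⟨fun h => (xG_eq_one_iff facts_chevE6 (show 71 < chevE6.nroots by decide +kernel)).1
    (congrArg Subtype.val h), fun h => by rw [h, zz_zero]⟩

theorem zz_injective : Function.Injective (zz : F → Gp F) := fun a b h => by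
  have h1 : zz (a - b) * zz b = 1 * zz b := by rw [← zz_add, sub_add_cancel, one_mul, h]
  exact sub_eq_zero.1 (zz_eq_one_iff.1 (mul_right_cancel h1))

theorem pWord_val (w : List (Fin chevE6.rank)) (s : Fin chevE6.nroots) :
    (pWord facts_chevE6.{u} w s : ℕ) = (w.map Fin.val).foldr chevE6.reflectRoot s := by
  induction w with
  | nil => rfl
  | cons i w ih => rw [pWord_cons, Equiv.Perm.mul_apply, wPerm_val, ih]; rfl

/-- The representative of a word, in the group. -/
noncomputable def nn (w : List (Fin chevE6.rank)) : Gp F :=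
  ⟨nWord facts_chevE6 w, monomial_le_group facts_chevE6 (nWord_mem facts_chevE6 w)⟩

theorem nn_conj (w : List (Fin chevE6.rank)) (r : ℕ) (hr : r < chevE6.nroots) :
    ∃ c : F, c ≠ 0 ∧ ∀ t : F, nn w * xx r t * (nn w)⁻¹ =
      xx ((w.map Fin.val).foldr chevE6.reflectRoot r) (c * t) := by
  obtain ⟨c, hc, h⟩ := isMon_nWord facts_chevE6 w (F := F) ⟨r, hr⟩
  refine ⟨c, hc, fun t => Subtype.ext ?_⟩
  show nWord facts_chevE6 w * xG facts_chevE6 r t * (nWord facts_chevE6 w)⁻¹ =
    xG facts_chevE6 _ (c * t)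
  rw [h t, mul_inv_cancel_right, pWord_val]

theorem chk_word : ([3, 4, 5, 2, 3, 4, 1, 3, 0] : List ℕ).foldr chevE6.reflectRoot (rL 1 2) = rQ 0 ∧
    ([3, 4, 5, 2, 3, 4, 1, 3, 0] : List ℕ).foldr chevE6.reflectRoot 71 = rQ 7 ∧
    rL 1 2 < chevE6.nroots ∧ 71 < chevE6.nroots ∧
    ([3, 4, 5, 2, 3, 4, 1, 3, 0] : List ℕ).all (fun i => decide (i < chevE6.rank)) = true := by
  decide +kernel

/-- A conjugating element in the monomial group. -/
theorem exists_weyl :
    ∃ (g : Gp F) (c d : F), c ≠ 0 ∧ d ≠ 0 ∧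
      (∀ t, g * xl 1 2 t * g⁻¹ = xs 0 (c * t)) ∧ ∀ v, g * zz v * g⁻¹ = xs 7 (d * v) := by
  obtain ⟨h0, h7, h42, h71, hall⟩ := chk_word
  obtain ⟨w, hw⟩ : ∃ w : List (Fin chevE6.rank),
      w.map Fin.val = [3, 4, 5, 2, 3, 4, 1, 3, 0] := by
    simp only [List.all_cons, List.all_nil, Bool.and_true, Bool.and_eq_true, decide_eq_true_eq] at hall
    obtain ⟨a, b, c, d, e, f, g, h, i⟩ := hall
    exact ⟨[⟨3, a⟩, ⟨4, b⟩, ⟨5, c⟩, ⟨2, d⟩, ⟨3, e⟩, ⟨4, f⟩, ⟨1, g⟩, ⟨3, h⟩, ⟨0, i⟩], rfl⟩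
  obtain ⟨c, hc, hc'⟩ := nn_conj (F := F) w (rL 1 2) h42
  obtain ⟨d, hd, hd'⟩ := nn_conj (F := F) w 71 h71
  rw [hw, h0] at hc'
  rw [hw, h7] at hd'
  refine ⟨nn w, (eQ 0 : F) * c * (eL 1 2 : F), (eQ 7 : F) * d, ?_, ?_, fun t => ?_, fun v => ?_⟩
  · exact mul_ne_zero (mul_ne_zero (by rcases chk_sign.1 0 with h | h <;> simp [h]) hc)
      (by rcases chk_sign.2 1 2 with h | h <;> simp [h])
  · exact mul_ne_zero (by rcases chk_sign.1 7 with h | h <;> simp [h]) hd
  · rw [xl, hc', xs]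
    congr 1
    linear_combination -(c * (eL 1 2 : F) * t) * sign_sq (F := F) (chk_sign.1 0)
  · rw [zz, hd', xs]
    congr 1
    linear_combination -(d * v) * sign_sq (F := F) (chk_sign.1 7)

/-- Scaling the highest root. -/
theorem exists_torus (t : Fˣ) : ∃ g : Gp F, ∀ v, g * zz v * g⁻¹ = zz ((t : F) * v) := by
  have h1 : 1 < chevE6.rank := by decide +kernel
  have h71 : 71 < chevE6.nroots := by decide +kernel
  set c : Fin chevE6.rank → Fˣ := Pi.mulSingle ⟨1, h1⟩ t with hc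
  have hmem : (torusHom c : GL chevE6.Idx F) ∈ chevE6.group F :=
    borel_le_group facts_chevE6 (Subgroup.mem_sup_right (torusHom_mem facts_chevE6 c))
  have hchi : chiU c 71 = t := by
    rw [chiU, Finset.prod_eq_single ⟨1, h1⟩]
    · rw [hc, Pi.mulSingle_eq_same, show chevE6.cartan 1 71 = 1 by decide +kernel, zpow_one]
    · intro j _ hj
      rw [hc, Pi.mulSingle_eq_of_ne hj, one_zpow]
    · simp
  refine ⟨⟨_, hmem⟩, fun v => Subtype.ext ?_⟩
  show torusHom c * xG facts_chevE6 71 v * (torusHom c)⁻¹ = xG facts_chevE6 71 _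
  rw [torusHom_conj facts_chevE6 c h71, hchi, mul_inv_cancel_right]

end Cfsg.Agent.E6Deg
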