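import Cfsg.Agent.E6Deg.Model

/-!
The set of decomposable trivectors as a quotient of the set of `3 × 6` matrices of rank three.
-/

set_option autoImplicit false
set_option maxRecDepth 100000

namespace Cfsg.Agent.E6Deg

open Matrix

universe u

variable {F : Type u} [Field F]

theorem opTgt_twice : ∀ i j n, i ≠ j → ∀ x ∈ opTgt i j n, opTgt i j x.1 = none := by
  decide +kernel

theorem op_op (i j : Fin 6) (hij : i ≠ j) (c d : F) (B : Fin 20 → F) :
    op i j d (op i j c B) = op i j (c + d) B := by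
  funext n
  simp only [op]
  cases h : opTgt i j n with
  | none => simp [ev]
  | some x =>
    have h' := opTgt_twice i j n hij x (by rw [h]; rfl)
    obtain ⟨m, s⟩ := x
    simp only [ev, op, h', mul_zero, add_zero]
    ring

theorem op_zero_c (i j : Fin 6) (B : Fin 20 → F) : op i j 0 B = B := by
  funext n; simp [op]

theorem op_injective {i j : Fin 6} (hij : i ≠ j) (c : F) :
    Function.Injective (op i j c : (Fin 20 → F) → Fin 20 → F) := fun A B h => by
  have h' := congrArg (op i j (-c)) h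
  rwa [op_op i j hij, op_op i j hij, add_neg_cancel, op_zero_c, op_zero_c] at h'

theorem op_zero (i j : Fin 6) (c : F) : op i j c (0 : Fin 20 → F) = 0 := by
  funext n
  simp only [op]
  cases opTgt i j n with
  | none => simp [ev]
  | some x => obtain ⟨m, s⟩ := x; simp [ev]

/-- The rows are independent. -/
def LI {n : ℕ} (M : Matrix (Fin 3) (Fin n) F) : Prop := LinearIndependent F M.row

theorem li_iff {n : ℕ} (M : Matrix (Fin 3) (Fin n) F) :
    LI M ↔ ∀ y : Fin 3 → F, y ᵥ* M = 0 → y = 0 := by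
  rw [LI, ← Matrix.vecMul_injective_iff, ← Matrix.coe_vecMulLinear, injective_iff_map_eq_zero]
  rfl

theorem p_mul (h : Matrix (Fin 3) (Fin 3) F) (M : Matrix (Fin 3) (Fin 6) F) :
    p (h * M) = h.det • p M := by
  funext n
  show ((h * M).submatrix id (tri n)).det = h.det * (M.submatrix id (tri n)).det
  rw [← det_mul]
  rfl

theorem li_of_p_ne {M : Matrix (Fin 3) (Fin 6) F} {n : Fin 20} (h : p M n ≠ 0) : LI M := by
  rw [li_iff]
  intro y hy
  by_contra hy0
  refine h (exists_vecMul_eq_zero_iff.1 ⟨y, hy0, funext fun x => ?_⟩)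
  exact congrFun hy (tri n x)

theorem sl_val_mul {n : ℕ} (g h : SpecialLinearGroup (Fin n) F) : (g * h).1 = g.1 * h.1 := rfl

theorem sl_val_inv {n : ℕ} (g : SpecialLinearGroup (Fin n) F) : g.1 * (g⁻¹).1 = 1 :=
  congrArg Subtype.val (mul_inv_cancel g)

/-- The property of acting on the coordinates. -/
def Acts (g : SpecialLinearGroup (Fin 6) F) : Prop :=
  ∃ L : (Fin 20 → F) → (Fin 20 → F), Function.Injective L ∧ L 0 = 0 ∧
    (∀ M, p (M * g.1) = L (p M)) ∧
    (∀ S : Set (Fin 20 → F), (∀ i j, i ≠ j → ∀ c, ∀ B ∈ S, op i j c B ∈ S) → ∀ B ∈ S, L B ∈ S)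

theorem acts_mul {g h : SpecialLinearGroup (Fin 6) F} (hg : Acts g) (hh : Acts h) :
    Acts (g * h) := by
  obtain ⟨L, h1, h2, h3, h4⟩ := hg
  obtain ⟨L', h1', h2', h3', h4'⟩ := hh
  refine ⟨L' ∘ L, h1'.comp h1, by simp [h2, h2'], fun M => ?_, fun S hS B hB => h4' S hS _ (h4 S hS B hB)⟩
  rw [sl_val_mul, ← Matrix.mul_assoc, h3', h3]
  rfl

theorem acts_transvection {i j : Fin 6} (hij : i ≠ j) (c : F) :
    Acts (SpecialLinearGroup.transvection hij c : SpecialLinearGroup (Fin 6) F) :=
  ⟨op i j c, op_injective hij c, op_zero i j c, fun M => p_mul_transvection M hij c,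
    fun S hS B hB => hS i j hij c B hB⟩

/-- Multiplication by a special linear matrix acts on the coordinates by an injective map. -/
theorem exists_act [DecidableEq F] (g : SpecialLinearGroup (Fin 6) F) : Acts g := by
  refine SpecialLinearGroup.diagonal_transvection_induction' (fun A => Acts A) g ?_ ?_ ?_
  · intro i j hij c hc
    rw [Cfsg.Agent.Classical.diag2n_decompose hij c hc]
    exact acts_mul (acts_mul (acts_mul (acts_mul (acts_mul (acts_transvection _ _) (acts_transvection _ _))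
      (acts_transvection _ _)) (acts_transvection _ _)) (acts_transvection _ _)) (acts_transvection _ _)
  · intro i j hij c
    exact acts_transvection hij c
  · exact fun A B hA hB => acts_mul hA hB

/-- The standard point. -/
def M₀ : Matrix (Fin 3) (Fin 6) F := Matrix.of fun a b => if (b : ℕ) = a then 1 else 0

theorem p_M₀_zero : p (M₀ : Matrix (Fin 3) (Fin 6) F) 0 = 1 := by
  have h : (M₀ : Matrix (Fin 3) (Fin 6) F).submatrix id (tri 0) = 1 := by
    ext a b
    fin_cases a <;> fin_cases b <;> rfl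
  rw [p, h, det_one]

/-- Every matrix of rank three is a translate of the standard one. -/
theorem exists_eq_mul {M : Matrix (Fin 3) (Fin 6) F} (hM : LI M) :
    ∃ g : SpecialLinearGroup (Fin 6) F, M = (M₀ : Matrix (Fin 3) (Fin 6) F) * g.1 := by
  have hfr : Module.finrank F (Fin 6 → F) = 6 := Module.finrank_fin_fun F
  obtain ⟨a, ha⟩ := exists_linearIndependent_snoc_of_lt_finrank hM (by rw [hfr]; norm_num)
  obtain ⟨b, hb⟩ := exists_linearIndependent_snoc_of_lt_finrank ha (by rw [hfr]; norm_num)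
  obtain ⟨c, hc⟩ := exists_linearIndependent_snoc_of_lt_finrank hb (by rw [hfr]; norm_num)
  let G : Matrix (Fin 6) (Fin 6) F := Matrix.of (Fin.snoc (Fin.snoc (Fin.snoc M.row a) b) c)
  have hG : G.det ≠ 0 := by
    have : IsUnit G := Matrix.linearIndependent_rows_iff_isUnit.1 hc
    exact ((Matrix.isUnit_iff_isUnit_det G).1 this).ne_zero
  refine ⟨⟨G.updateRow 3 (G.det⁻¹ • G 3), ?_⟩, ?_⟩
  · rw [det_updateRow_smul, updateRow_eq_self, inv_mul_cancel₀ hG]
  · ext r x
    show M r x = ∑ s, M₀ r s * G.updateRow 3 (G.det⁻¹ • G 3) s x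
    rw [Finset.sum_eq_single (Fin.castLE (by norm_num) r)]
    · rw [show M₀ r (Fin.castLE (by norm_num) r) = (1 : F) from if_pos rfl, one_mul,
        updateRow_ne (fun h => by
          have := congrArg Fin.val h
          have := r.2
          simp at *
          omega)]
      fin_cases r <;> rfl
    · intro s _ hs
      rw [show M₀ r s = (0 : F) from if_neg fun h => hs (Fin.ext h), zero_mul]
    · simp

/-- The decomposable trivectors. -/
def Gr (F : Type u) [Field F] : Set (Fin 20 → F) := p '' {M | LI M}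

theorem li_mul {M : Matrix (Fin 3) (Fin 6) F} (hM : LI M) (g : SpecialLinearGroup (Fin 6) F) :
    LI (M * g.1) := by
  rw [li_iff] at hM ⊢
  intro y hy
  refine hM y ?_
  have h := congrArg (fun w => w ᵥ* (g⁻¹).1) hy
  simp only [vecMul_vecMul, zero_vecMul] at h
  rwa [Matrix.mul_assoc, sl_val_inv, Matrix.mul_one] at h

theorem exists_p_ne [DecidableEq F] {M : Matrix (Fin 3) (Fin 6) F} (hM : LI M) : p M ≠ 0 := by
  obtain ⟨g, rfl⟩ := exists_eq_mul hM
  obtain ⟨L, hinj, h0, hL, -⟩ := exists_act g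
  rw [hL, ← h0]
  exact fun h => one_ne_zero (p_M₀_zero.symm.trans (congrFun (hinj h) 0))

theorem zero_not_mem_Gr [DecidableEq F] : (0 : Fin 20 → F) ∉ Gr F := fun ⟨_, hM, h⟩ =>
  exists_p_ne hM h

/-- A closed set meeting the decomposable trivectors contains all of them. -/
theorem gr_subset [DecidableEq F] {S : Set (Fin 20 → F)}
    (hS : ∀ i j, i ≠ j → ∀ c, ∀ B ∈ S, op i j c B ∈ S) {B : Fin 20 → F} (hB : B ∈ S)
    (hBG : B ∈ Gr F) : Gr F ⊆ S := by
  rintro _ ⟨M', hM', rfl⟩
  obtain ⟨M, hM, rfl⟩ := hBG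
  obtain ⟨g, rfl⟩ := exists_eq_mul hM
  obtain ⟨g', rfl⟩ := exists_eq_mul hM'
  obtain ⟨L, -, -, hL, hLS⟩ := exists_act (g⁻¹ * g')
  have h := hL ((M₀ : Matrix (Fin 3) (Fin 6) F) * g.1)
  rw [Matrix.mul_assoc, ← sl_val_mul, mul_inv_cancel_left] at h
  rw [h]
  exact hLS S hS _ hB

/-- The fibres of the coordinate map. -/
theorem fibre [DecidableEq F] {M M' : Matrix (Fin 3) (Fin 6) F} (hM : LI M) (h : p M' = p M) :
    ∃ s : SpecialLinearGroup (Fin 3) F, M' = s.1 * M := by
  obtain ⟨n, hn⟩ : ∃ n, p M n ≠ 0 := Function.ne_iff.1 (exists_p_ne hM)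
  set A : Matrix (Fin 3) (Fin 3) F := M.submatrix id (tri n) with hA
  set A' : Matrix (Fin 3) (Fin 3) F := M'.submatrix id (tri n) with hA'
  have hd : A'.det = A.det := congrFun h n
  have hu : IsUnit A.det := isUnit_iff_ne_zero.2 hn
  have hu' : IsUnit A'.det := by rw [hd]; exact hu
  have key : A'⁻¹ * M' = A⁻¹ * M := by
    ext r c
    rw [show (A'⁻¹ * M') r c = (A'⁻¹ *ᵥ fun a => M' a c) r from rfl,
      show (A⁻¹ * M) r c = (A⁻¹ *ᵥ fun a => M a c) r from rfl]
    have e : ∀ N : Matrix (Fin 3) (Fin 6) F,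
        cramer (N.submatrix id (tri n)) (fun a => N a c) r =
          ev (p N) (tsg (Function.update (tri n) r c)) := fun N => by
      rw [cramer_apply, ← det_cols]
      congr 1
      ext a b
      by_cases hb : b = r
      · subst hb; simp
      · simp [hb]
    have e' : cramer A' (fun a => M' a c) r = cramer A (fun a => M a c) r := by
      rw [hA, hA', e, e, h]
    rw [cramer_eq_adjugate_mulVec, cramer_eq_adjugate_mulVec] at e'
    rw [Matrix.inv_def, Matrix.inv_def, smul_mulVec, smul_mulVec, Pi.smul_apply, Pi.smul_apply, e', hd]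
  refine ⟨⟨A' * A⁻¹, ?_⟩, ?_⟩
  · rw [det_mul, det_nonsing_inv, hd, Ring.mul_inverse_cancel _ hu]
  · show M' = A' * A⁻¹ * M
    rw [Matrix.mul_assoc, ← key, Matrix.mul_nonsing_inv_cancel_left _ _ hu']

theorem li_sl_mul {M : Matrix (Fin 3) (Fin 6) F} (hM : LI M) (s : SpecialLinearGroup (Fin 3) F) :
    LI (s.1 * M) := by
  rw [li_iff] at hM ⊢
  intro y hy
  have h := hM (y ᵥ* s.1) (by rw [vecMul_vecMul, hy])
  have h' := congrArg (fun w => w ᵥ* (s⁻¹).1) h
  simp only [vecMul_vecMul, zero_vecMul] at h'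
  rwa [sl_val_inv, vecMul_one] at h'

theorem sl_mul_injective {M : Matrix (Fin 3) (Fin 6) F} (hM : LI M) :
    Function.Injective fun s : SpecialLinearGroup (Fin 3) F => s.1 * M := by
  intro s t h
  rw [li_iff] at hM
  refine Subtype.ext (Matrix.ext fun a b => ?_)
  have h1 := hM (s.1 a - t.1 a) (by
    rw [sub_vecMul, sub_eq_zero]
    exact congrFun h a)
  exact sub_eq_zero.1 (congrFun h1 b)

end Cfsg.Agent.E6Deg
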