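import Mathlib
import Cfsg.Agent.Classical.LinearBasic

/-!
Decomposable trivectors of a six-dimensional space in Pluecker coordinates.
-/

set_option autoImplicit false
set_option maxRecDepth 100000

namespace Cfsg.Agent.E6Deg

open Matrix

universe u

/-- The triples in lexicographic order. -/
def tri (n : Fin 20) : Fin 3 → Fin 6 :=
  ([![0,1,2],![0,1,3],![0,1,4],![0,1,5],![0,2,3],![0,2,4],![0,2,5],![0,3,4],![0,3,5],![0,4,5],![1,2,3],![1,2,4],![1,2,5],![1,3,4],![1,3,5],![1,4,5],![2,3,4],![2,3,5],![2,4,5],![3,4,5]] : List (Fin 3 → Fin 6)).getD n.1 ![0, 1, 2]

/-- Table sorting an ordered triple: the triple and the permutation. -/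
def tsTab : List (Option (Fin 20 × Fin 6)) := [
    none, none, none, none, none, none,
    none, none, some (0,0), some (1,0), some (2,0), some (3,0),
    none, some (0,3), none, some (4,0), some (5,0), some (6,0),
    none, some (1,3), some (4,3), none, some (7,0), some (8,0),
    none, some (2,3), some (5,3), some (7,3), none, some (9,0),
    none, some (3,3), some (6,3), some (8,3), some (9,3), none,
    none, none, some (0,1), some (1,1), some (2,1), some (3,1),
    none, none, none, none, none, none,
    some (0,4), none, none, some (10,0), some (11,0), some (12,0),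
    some (1,4), none, some (10,3), none, some (13,0), some (14,0),
    some (2,4), none, some (11,3), some (13,3), none, some (15,0),
    some (3,4), none, some (12,3), some (14,3), some (15,3), none,
    none, some (0,5), none, some (4,1), some (5,1), some (6,1),
    some (0,2), none, none, some (10,1), some (11,1), some (12,1),
    none, none, none, none, none, none,
    some (4,4), some (10,4), none, none, some (16,0), some (17,0),
    some (5,4), some (11,4), none, some (16,3), none, some (18,0),
    some (6,4), some (12,4), none, some (17,3), some (18,3), none,
    none, some (1,5), some (4,5), none, some (7,1), some (8,1),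
    some (1,2), none, some (10,5), none, some (13,1), some (14,1),
    some (4,2), some (10,2), none, none, some (16,1), some (17,1),
    none, none, none, none, none, none,
    some (7,4), some (13,4), some (16,4), none, none, some (19,0),
    some (8,4), some (14,4), some (17,4), none, some (19,3), none,
    none, some (2,5), some (5,5), some (7,5), none, some (9,1),
    some (2,2), none, some (11,5), some (13,5), none, some (15,1),
    some (5,2), some (11,2), none, some (16,5), none, some (18,1),
    some (7,2), some (13,2), some (16,2), none, none, some (19,1),
    none, none, none, none, none, none,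
    some (9,4), some (15,4), some (18,4), some (19,4), none, none,
    none, some (3,5), some (6,5), some (8,5), some (9,5), none,
    some (3,2), none, some (12,5), some (14,5), some (15,5), none,
    some (6,2), some (12,2), none, some (17,5), some (18,5), none,
    some (8,2), some (14,2), some (17,2), none, some (19,5), none,
    some (9,2), some (15,2), some (18,2), some (19,2), none, none,
    none, none, none, none, none, none]

/-- The six permutations. -/
def pi3 (k : Fin 6) : Equiv.Perm (Fin 3) :=
  ![1, Equiv.swap 0 1, Equiv.swap 0 2, Equiv.swap 1 2, Equiv.swap 0 1 * Equiv.swap 1 2,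
    Equiv.swap 1 2 * Equiv.swap 0 1] k

/-- Their signs. -/
def sg3 (k : Fin 6) : ℤ := ![1, -1, -1, -1, 1, 1] k

/-- Sorting an ordered triple. -/
def srt3 (f : Fin 3 → Fin 6) : Option (Fin 20 × Fin 6) :=
  tsTab.getD ((f 0).1 * 36 + (f 1).1 * 6 + (f 2).1) none

/-- The triple and the sign of an ordered triple. -/
def tsg (f : Fin 3 → Fin 6) : Option (Fin 20 × ℤ) :=
  (srt3 f).map fun x => (x.1, sg3 x.2)

theorem srt3_none : ∀ a b c : Fin 6, srt3 ![a, b, c] = none → a = b ∨ a = c ∨ b = c := by
  decide +kernel

/-- The check of the sorting table. -/
def chk3 (a b c : Fin 6) : Bool :=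
  match srt3 ![a, b, c] with
  | none => true
  | some x => (List.finRange 3).all fun y => decide (![a, b, c] y = tri x.1 (pi3 x.2 y))

theorem chk3_eq : ∀ a b c : Fin 6, chk3 a b c = true := by
  decide +kernel

theorem sign_pi3 : ∀ k, (Equiv.Perm.sign (pi3 k) : ℤ) = sg3 k := by
  decide +kernel

theorem tsg_tri : ∀ n, tsg (tri n) = some (n, 1) := by
  decide +kernel

/-- Target and sign of the operation adding a multiple of column `i` to column `j`. -/
def opTgt (i j : Fin 6) (n : Fin 20) : Option (Fin 20 × ℤ) :=
  match (List.finRange 3).find? (fun x => tri n x == j) with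
  | none => none
  | some x => tsg (Function.update (tri n) x i)

variable {F : Type u} [Field F]

/-- Pluecker coordinates. -/
def p (M : Matrix (Fin 3) (Fin 6) F) (n : Fin 20) : F := (M.submatrix id (tri n)).det

/-- The value of a signed coordinate. -/
def ev (B : Fin 20 → F) : Option (Fin 20 × ℤ) → F
  | none => 0
  | some (m, s) => (s : F) * B m

/-- The operation of adding `c` times column `i` to column `j`. -/
def op (i j : Fin 6) (c : F) (B : Fin 20 → F) : Fin 20 → F :=
  fun n => B n + c * ev B (opTgt i j n)

theorem det_cols (M : Matrix (Fin 3) (Fin 6) F) (f : Fin 3 → Fin 6) :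
    (M.submatrix id f).det = ev (p M) (tsg f) := by
  have hf : f = ![f 0, f 1, f 2] := by
    funext y; fin_cases y <;> rfl
  unfold tsg
  cases hs : srt3 f with
  | none =>
    rw [hf] at hs
    show _ = (0 : F)
    rcases srt3_none _ _ _ hs with h | h | h
    · exact det_zero_of_column_eq (i := 0) (j := 1) (by decide) fun r => by simp [h]
    · exact det_zero_of_column_eq (i := 0) (j := 2) (by decide) fun r => by simp [h]
    · exact det_zero_of_column_eq (i := 1) (j := 2) (by decide) fun r => by simp [h]
  | some x =>
    have h := chk3_eq (f 0) (f 1) (f 2)
    rw [chk3, ← hf, hs] at h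
    simp only [List.all_eq_true, decide_eq_true_eq] at h
    have h' : f = tri x.1 ∘ pi3 x.2 := funext fun y => h y (List.mem_finRange y)
    show _ = ((sg3 x.2 : ℤ) : F) * p M x.1
    rw [h', ← sign_pi3, show M.submatrix id (tri x.1 ∘ pi3 x.2) =
      (M.submatrix id (tri x.1)).submatrix id (pi3 x.2) from rfl, det_permute']
    rfl

theorem tri_inj : ∀ n x y, tri n x = tri n y → x = y := by
  decide +kernel

/-- Column operations act on the coordinates by `op`. -/
theorem p_mul_transvection (M : Matrix (Fin 3) (Fin 6) F) {i j : Fin 6} (hij : i ≠ j) (c : F) :
    p (M * Matrix.transvection i j c) = op i j c (p M) := by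
  funext n
  have hM : ∀ a b, (M * Matrix.transvection i j c) a b = M a b + if b = j then c * M a i else 0 := by
    intro a b
    rw [Matrix.transvection, Matrix.mul_add, Matrix.mul_one, Matrix.add_apply]
    congr 1
    by_cases hb : b = j
    · subst hb; rw [if_pos rfl, Matrix.mul_single_apply_same, mul_comm]
    · rw [if_neg hb]; simp [hb]
  unfold op opTgt
  cases hx : (List.finRange 3).find? (fun x => tri n x == j) with
  | none =>
    show _ = p M n + c * 0
    rw [mul_zero, add_zero]
    have hne : ∀ x, tri n x ≠ j := fun x => by
      simpa using List.find?_eq_none.1 hx x (List.mem_finRange x)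
    unfold p
    congr 1
    ext a b
    simp [hM, hne b]
  | some x =>
    have hxj : tri n x = j := by simpa using List.find?_some hx
    show _ = p M n + c * ev (p M) (tsg (Function.update (tri n) x i))
    rw [← det_cols]
    unfold p
    have e1 : (M * Matrix.transvection i j c).submatrix id (tri n) =
        (M.submatrix id (tri n)).updateCol x
          ((fun a => M a j) + c • fun a => M a i) := by
      ext a b
      by_cases hb : b = x
      · subst hb; simp [hM, hxj]
      · have : tri n b ≠ j := fun e => hb (tri_inj n b x (e.trans hxj.symm))
        simp [hM, hb, this]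
    have e2 : ∀ v : Fin 3 → F, (M.submatrix id (tri n)).updateCol x v =
        Matrix.of fun a b => if b = x then v a else M a (tri n b) := fun v => by
      ext a b
      by_cases hb : b = x
      · subst hb; simp
      · simp [hb]
    rw [e1, det_updateCol_add, det_updateCol_smul]
    congr 2
    · congr 1
      ext a b
      by_cases hb : b = x
      · subst hb; simp [hxj]
      · simp [hb]
    · congr 1
      ext a b
      by_cases hb : b = x
      · subst hb; simp
      · simp [hb]

end Cfsg.Agent.E6Deg
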