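import Cfsg.Agent.Char.Basic
import Mathlib.Analysis.Fourier.FiniteAbelian.PontryaginDuality
import Mathlib.LinearAlgebra.Trace

/-!
The projections on the eigenspaces of a subgroup with abelian image.
-/

set_option autoImplicit false

namespace Cfsg.Agent.E6Deg

universe u w

section

variable {G : Type u} [Group G] {k : ℕ} (ρ : Representation ℂ G (Fin k → ℂ))
  {H : Subgroup G} [Fintype ↥H] {Q : Type w} [CommGroup Q] (π : ↥H →* Q)

/-- The character read on the subgroup. -/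
def lamH (Λ : AddChar (Additive Q) ℂ) (h : ↥H) : ℂ := Λ (Additive.ofMul (π h))

omit [Fintype ↥H] in
theorem lamH_mul (Λ : AddChar (Additive Q) ℂ) (a b : ↥H) :
    lamH π Λ (a * b) = lamH π Λ a * lamH π Λ b := by
  simp only [lamH, map_mul, ofMul_mul, AddChar.map_add_eq_mul]

omit [Fintype ↥H] in
theorem lamH_one (Λ : AddChar (Additive Q) ℂ) : lamH π Λ (1 : ↥H) = 1 := by
  simp [lamH, AddChar.map_zero_eq_one]

omit [Fintype ↥H] in
theorem lamH_inv_mul (Λ : AddChar (Additive Q) ℂ) (a : ↥H) :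
    lamH π Λ a⁻¹ * lamH π Λ a = 1 := by
  rw [← lamH_mul, inv_mul_cancel, lamH_one]

/-- The projection on the eigenspace. -/
noncomputable def proj (Λ : AddChar (Additive Q) ℂ) : Module.End ℂ (Fin k → ℂ) :=
  (Fintype.card ↥H : ℂ)⁻¹ • ∑ h : ↥H, lamH π Λ h⁻¹ • ρ h

/-- Its dimension. -/
noncomputable def pdim (Λ : AddChar (Additive Q) ℂ) : ℕ :=
  Module.finrank ℂ (LinearMap.range (proj ρ π Λ))

theorem proj_mul_rho (Λ : AddChar (Additive Q) ℂ) (x : ↥H) :
    proj ρ π Λ * ρ x = lamH π Λ x • proj ρ π Λ := by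
  rw [proj, smul_mul_assoc, Finset.sum_mul, smul_comm]
  congr 1
  rw [Finset.smul_sum]
  refine Fintype.sum_equiv (Equiv.mulRight x) _ _ fun h => ?_
  rw [Equiv.coe_mulRight, smul_smul, smul_mul_assoc, Subgroup.coe_mul, ← map_mul, mul_inv_rev,
    lamH_mul, ← mul_assoc, mul_comm (lamH π Λ x), lamH_inv_mul, one_mul]

theorem proj_mul_proj (Λ Λ' : AddChar (Additive Q) ℂ) :
    proj ρ π Λ * proj ρ π Λ' =
      ((Fintype.card ↥H : ℂ)⁻¹ * ∑ h, lamH π Λ' h⁻¹ * lamH π Λ h) • proj ρ π Λ := by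
  conv_lhs => arg 2; rw [proj]
  rw [mul_smul_comm, Finset.mul_sum, mul_smul, Finset.sum_smul]
  congr 1
  refine Finset.sum_congr rfl fun h _ => ?_
  rw [mul_smul_comm, proj_mul_rho, smul_smul]

theorem proj_sq (Λ : AddChar (Additive Q) ℂ) : proj ρ π Λ * proj ρ π Λ = proj ρ π Λ := by
  rw [proj_mul_proj]
  simp only [lamH_inv_mul, Finset.sum_const, Finset.card_univ, nsmul_eq_mul, mul_one]
  rw [inv_mul_cancel₀ (Nat.cast_ne_zero.2 Fintype.card_ne_zero), one_smul]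

theorem trace_proj (Λ : AddChar (Additive Q) ℂ) :
    LinearMap.trace ℂ _ (proj ρ π Λ) = (pdim ρ π Λ : ℂ) :=
  (LinearMap.IsProj.mk (fun x => LinearMap.mem_range_self _ x) (by
    rintro _ ⟨x, rfl⟩
    exact LinearMap.congr_fun (proj_sq ρ π Λ) x) :
    LinearMap.IsProj (LinearMap.range (proj ρ π Λ)) (proj ρ π Λ)).trace

theorem proj_orth (hπ : Function.Surjective π) {Λ Λ' : AddChar (Additive Q) ℂ} (h : Λ ≠ Λ') :
    proj ρ π Λ * proj ρ π Λ' = 0 := by
  obtain ⟨x, hx⟩ : ∃ x, lamH π Λ x ≠ lamH π Λ' x := by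
    by_contra hc
    push Not at hc
    refine h (DFunLike.ext _ _ fun a => ?_)
    obtain ⟨x, hx⟩ := hπ a.toMul
    have := hc x
    simp only [lamH, hx, ofMul_toMul] at this
    exact this
  set S := ∑ h, lamH π Λ' h⁻¹ * lamH π Λ h with hS
  have h1 : lamH π Λ' x * S = lamH π Λ x * S := by
    calc lamH π Λ' x * S = lamH π Λ' x * ∑ h, lamH π Λ' (h * x)⁻¹ * lamH π Λ (h * x) := by
          congr 1
          exact (Fintype.sum_equiv (Equiv.mulRight x) _ _ fun h => rfl).symm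
      _ = lamH π Λ x * S := by
          rw [Finset.mul_sum, hS, Finset.mul_sum]
          refine Finset.sum_congr rfl fun h _ => ?_
          rw [mul_inv_rev, lamH_mul, lamH_mul]
          linear_combination (lamH π Λ' h⁻¹ * lamH π Λ h * lamH π Λ x) * lamH_inv_mul π Λ' x
  have h2 : S = 0 := by
    by_contra hne
    exact hx (mul_right_cancel₀ hne h1).symm
  rw [proj_mul_proj, ← hS, h2, mul_zero, zero_smul]

theorem proj_eq_zero {Λ : AddChar (Additive Q) ℂ} (h : pdim ρ π Λ = 0) : proj ρ π Λ = 0 :=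
  LinearMap.range_eq_bot.1 (Submodule.finrank_eq_zero.1 h)

/-- An element conjugating one character to another intertwines the projections. -/
theorem proj_conj {g : G} (σ : ↥H ≃ ↥H) (hσ : ∀ h : ↥H, (σ h : G) = g * h * g⁻¹)
    {Λ Λ' : AddChar (Additive Q) ℂ} (hΛ : ∀ h, lamH π Λ' h = lamH π Λ (σ h)) :
    ρ g * proj ρ π Λ' = proj ρ π Λ * ρ g := by
  rw [proj, proj, mul_smul_comm, smul_mul_assoc, Finset.mul_sum, Finset.sum_mul]
  congr 1
  refine Fintype.sum_equiv σ _ _ fun h => ?_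
  rw [mul_smul_comm, smul_mul_assoc, ← map_mul, ← map_mul, hσ, inv_mul_cancel_right]
  congr 1
  rw [hΛ]
  congr 1
  refine Subtype.ext ?_
  rw [hσ, Subgroup.coe_inv, Subgroup.coe_inv, hσ]
  group

theorem pdim_conj {g : G} (σ : ↥H ≃ ↥H) (hσ : ∀ h : ↥H, (σ h : G) = g * h * g⁻¹)
    {Λ Λ' : AddChar (Additive Q) ℂ} (hΛ : ∀ h, lamH π Λ' h = lamH π Λ (σ h)) :
    pdim ρ π Λ' = pdim ρ π Λ := by
  have h : proj ρ π Λ' = ρ g⁻¹ * (proj ρ π Λ * ρ g) := by
    rw [← proj_conj ρ π σ hσ hΛ, ← mul_assoc, ← map_mul, inv_mul_cancel, map_one, one_mul]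
  have h' := congrArg (LinearMap.trace ℂ _) h
  rw [trace_proj, LinearMap.trace_mul_comm, mul_assoc, ← map_mul, mul_inv_cancel, map_one, mul_one,
    trace_proj] at h'
  exact_mod_cast h'

theorem trace_eq_zero_of_moved (hπ : Function.Surjective π) {g : G} (σ : ↥H ≃ ↥H)
    (hσ : ∀ h : ↥H, (σ h : G) = g * h * g⁻¹) {Λ Λ' : AddChar (Additive Q) ℂ}
    (hΛ : ∀ h, lamH π Λ' h = lamH π Λ (σ h)) (hne : Λ' ≠ Λ) :
    LinearMap.trace ℂ _ (ρ g * proj ρ π Λ) = 0 := by
  rw [← proj_sq ρ π Λ, ← mul_assoc, LinearMap.trace_mul_comm, ← mul_assoc,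
    ← proj_conj ρ π σ hσ hΛ, mul_assoc, proj_orth ρ π hπ hne, mul_zero, map_zero]

theorem proj_rank_one {Λ : AddChar (Additive Q) ℂ} (hd : pdim ρ π Λ = 1)
    (A : Module.End ℂ (Fin k → ℂ)) :
    proj ρ π Λ * A * proj ρ π Λ =
      LinearMap.trace ℂ _ (A * proj ρ π Λ) • proj ρ π Λ := by
  obtain ⟨w, hw0, hw⟩ := finrank_eq_one_iff'.1 hd
  have hmem : ∀ x, proj ρ π Λ x ∈ LinearMap.range (proj ρ π Λ) := fun x => LinearMap.mem_range_self _ x
  choose φ hφ using fun x => hw ⟨_, hmem x⟩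
  have hφ' : ∀ x, proj ρ π Λ x = φ x • (w : Fin k → ℂ) := fun x =>
    (congrArg Subtype.val (hφ x)).symm
  have hc : ∃ c : ℂ, proj ρ π Λ * A * proj ρ π Λ = c • proj ρ π Λ := by
    refine ⟨φ (A w), LinearMap.ext fun x => ?_⟩
    show proj ρ π Λ (A (proj ρ π Λ x)) = φ (A w) • proj ρ π Λ x
    rw [hφ' x, map_smul, map_smul, hφ' (A w), smul_comm]
  obtain ⟨c, hc⟩ := hc
  have ht := congrArg (LinearMap.trace ℂ _) hc
  rw [map_smul, trace_proj, hd, Nat.cast_one, smul_eq_mul, mul_one, LinearMap.trace_mul_comm,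
    ← mul_assoc, proj_sq, LinearMap.trace_mul_comm] at ht
  rw [hc, ht]

theorem exists_scalar {Λ : AddChar (Additive Q) ℂ} (hd : pdim ρ π Λ = 1) {g : G}
    (hg : ρ g * proj ρ π Λ = proj ρ π Λ * ρ g) :
    ∃ μ : ℂ, ρ g * proj ρ π Λ = μ • proj ρ π Λ := by
  refine ⟨LinearMap.trace ℂ _ (ρ g * proj ρ π Λ), ?_⟩
  rw [← proj_rank_one ρ π hd (ρ g), ← hg, mul_assoc, proj_sq]

/-- A commutator of stabilising elements acts trivially. -/
theorem commutator_fix {Λ : AddChar (Additive Q) ℂ} (hd : pdim ρ π Λ = 1) {a b : G}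
    (ha : ρ a * proj ρ π Λ = proj ρ π Λ * ρ a) (hb : ρ b * proj ρ π Λ = proj ρ π Λ * ρ b) :
    ρ (a * b * a⁻¹ * b⁻¹) * proj ρ π Λ = proj ρ π Λ := by
  set P := proj ρ π Λ with hP
  have hP0 : P ≠ 0 := fun h => by
    have := trace_proj ρ π Λ
    rw [← hP, h, map_zero, hd, Nat.cast_one] at this
    exact zero_ne_one this
  have hinv : ∀ g : G, ρ g * P = P * ρ g → ∀ μ : ℂ, ρ g * P = μ • P →
      ρ g⁻¹ * P = μ⁻¹ • P ∧ μ ≠ 0 := by
    intro g _ μ hμ
    have h1 : ρ g⁻¹ * (ρ g * P) = P := by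
      rw [← mul_assoc, ← map_mul, inv_mul_cancel, map_one, one_mul]
    rw [hμ, mul_smul_comm] at h1
    have hμ0 : μ ≠ 0 := fun h => hP0 (by rw [← h1, h, zero_smul])
    refine ⟨?_, hμ0⟩
    conv_rhs => rw [← h1]
    rw [smul_smul, inv_mul_cancel₀ hμ0, one_smul]
  obtain ⟨μ, hμ⟩ := exists_scalar ρ π hd ha
  obtain ⟨ν, hν⟩ := exists_scalar ρ π hd hb
  obtain ⟨hμ', hμ0⟩ := hinv a ha μ hμ
  obtain ⟨hν', hν0⟩ := hinv b hb ν hν
  rw [map_mul, map_mul, map_mul, mul_assoc (ρ a * ρ b * ρ a⁻¹), hν', mul_smul_comm,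
    mul_assoc (ρ a * ρ b), hμ', mul_smul_comm, mul_assoc, hν, mul_smul_comm, hμ, smul_smul,
    smul_smul, smul_smul,
    show ν⁻¹ * μ⁻¹ * ν * μ = 1 by field_simp, one_smul]

variable [Fintype Q] [DecidableEq Q]

/-- The sum of the projections against a character value. -/
theorem sum_proj (g : ↥H) :
    (Fintype.card ↥H : ℂ) • ∑ Λ, lamH π Λ g • proj ρ π Λ =
      (Fintype.card Q : ℂ) • ∑ h ∈ Finset.univ.filter (fun h : ↥H => π h = π g), ρ h := by
  calc (Fintype.card ↥H : ℂ) • ∑ Λ, lamH π Λ g • proj ρ π Λ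
      = ∑ Λ : AddChar (Additive Q) ℂ, ∑ h : ↥H,
          Λ (Additive.ofMul ((π h)⁻¹ * π g)) • ρ h := by
        rw [Finset.smul_sum]
        refine Finset.sum_congr rfl fun Λ _ => ?_
        rw [proj, smul_smul, smul_smul, mul_comm (Fintype.card ↥H : ℂ), mul_assoc,
          mul_inv_cancel₀ (Nat.cast_ne_zero.2 Fintype.card_ne_zero), mul_one, Finset.smul_sum]
        refine Finset.sum_congr rfl fun h _ => ?_
        rw [smul_smul, ofMul_mul, AddChar.map_add_eq_mul, lamH, lamH, map_inv, mul_comm]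
    _ = ∑ h : ↥H, (if π h = π g then (Fintype.card Q : ℂ) else 0) • ρ h := by
        rw [Finset.sum_comm]
        refine Finset.sum_congr rfl fun h _ => ?_
        rw [← Finset.sum_smul, AddChar.sum_apply_eq_ite]
        congr 1
        by_cases he : π h = π g
        · rw [if_pos he, if_pos (by simp [he]), Fintype.card_additive]
        · rw [if_neg he, if_neg fun h0 => he ?_]
          have h1 : (π h)⁻¹ * π g = 1 := Additive.ofMul.injective (h0.trans ofMul_one.symm)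
          exact inv_mul_eq_one.1 h1
    _ = _ := by
        rw [Finset.smul_sum, Finset.sum_filter]
        exact Finset.sum_congr rfl fun h _ => by split <;> simp

end

end Cfsg.Agent.E6Deg
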