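import Cfsg.Agent.E6Deg.Count
import Cfsg.Agent.SLDeg.Mat

/-!
The test transvection is a commutator in the stabiliser of each point that it fixes.
-/

set_option autoImplicit false
set_option maxRecDepth 100000

namespace Cfsg.Agent.E6Deg

open Matrix Cfsg.Agent.SLDeg
open scoped commutatorElement

universe u

variable {F : Type u} [Field F]

theorem tv_val {n : ℕ} (a f : Fin n → F) (h : f ⬝ᵥ a = 0) :
    (tv a f h).1 = 1 + vecMulVec a f := rfl

theorem tv_commutator {n : ℕ} {a f c d : Fin n → F} (hfa : f ⬝ᵥ a = 0) (hdc : d ⬝ᵥ c = 0)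
    (hda : d ⬝ᵥ a = 0) :
    ⁅tv a f hfa, tv c d hdc⁆ = tv ((f ⬝ᵥ c) • a) d (by rw [dotProduct_smul, hda, smul_zero]) := by
  have hd : pull (tv a f hfa) d = d := by
    rw [pull, tv_val, vecMul_add, vecMul_one, vecMul_vecMulVec, hda, zero_smul, add_zero]
  have hg : tv a f hfa • c = c + (f ⬝ᵥ c) • a := tv_apply a f hfa c
  have h0 : d ⬝ᵥ (tv a f hfa • c) = 0 := by
    rw [← pull_dot, hd, hdc]
  have e := conj_tv (tv a f hfa) c d h0
  rw [tv_congr _ hdc rfl hd] at e
  have h1 : d ⬝ᵥ ((f ⬝ᵥ c) • a) = 0 := by rw [dotProduct_smul, hda, smul_zero]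
  rw [commutatorElement_def, e, mul_inv_cancel_right,
    tv_congr h0 (by rw [dotProduct_add, h1, hdc, add_zero] : d ⬝ᵥ ((f ⬝ᵥ c) • a + c) = 0)
      (hg.trans (add_comm _ _)) rfl,
    ← tv_mul_left h1 hdc, mul_inv_cancel_right]

theorem p_fix_of_kernel {M : Matrix (Fin 3) (Fin 6) F} {a f : Fin 6 → F} (h : f ⬝ᵥ a = 0)
    (hM : M *ᵥ a = 0) : p (M * (tv a f h).1) = p M := by
  rw [tv_val, Matrix.mul_add, Matrix.mul_one, Matrix.mul_vecMulVec, hM, Matrix.zero_vecMulVec,
    add_zero]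

theorem p_fix_of_row {M : Matrix (Fin 3) (Fin 6) F} {a f : Fin 6 → F} (h : f ⬝ᵥ a = 0)
    {w : Fin 3 → F} (hw : f = w ᵥ* M) : p (M * (tv a f h).1) = p M := by
  have e : M * (tv a f h).1 = (1 + vecMulVec (M *ᵥ a) w) * M := by
    rw [tv_val, Matrix.mul_add, Matrix.mul_one, Matrix.mul_vecMulVec, Matrix.add_mul, Matrix.one_mul,
      Matrix.vecMulVec_mul, ← hw]
  rw [e, p_mul, Classical.det_one_add_vecMulVec, dotProduct_mulVec, ← hw, h, add_zero, one_smul]

theorem exists_ker {m n : ℕ} (hmn : n < m) (L : (Fin m → F) →ₗ[F] Fin n → F) :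
    ∃ v, v ≠ 0 ∧ L v = 0 := by
  by_contra hc
  push Not at hc
  have hinj : Function.Injective L := fun x y h => by
    by_contra hne
    exact hc (x - y) (sub_ne_zero.2 hne) (by rw [map_sub, h, sub_self])
  have := LinearMap.finrank_le_finrank_of_injective hinj
  rw [Module.finrank_fin_fun, Module.finrank_fin_fun] at this
  omega

theorem transvection_eq_tv (t : F) :
    (SpecialLinearGroup.transvection (show (1 : Fin 6) ≠ 2 by decide) t :
      SpecialLinearGroup (Fin 6) F) = tv (t • e 1) (e 2) (by simp) := by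
  refine Subtype.ext ?_
  rw [tv_val]
  show 1 + Matrix.single (1 : Fin 6) 2 t = _
  congr 1
  ext r c
  simp [Matrix.single, Matrix.vecMulVec_apply, Pi.single_apply]
  grind

/-- The witnesses. -/
theorem exists_witness [DecidableEq F] {M : Matrix (Fin 3) (Fin 6) F} (hM : LI M) (h : FixM M)
    (t : F) :
    ∃ A B : SpecialLinearGroup (Fin 6) F, p (M * A.1) = p M ∧ p (M * B.1) = p M ∧
      ⁅A, B⁆ = SpecialLinearGroup.transvection (show (1 : Fin 6) ≠ 2 by decide) t := by
  rw [transvection_eq_tv]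
  rcases h with h1 | h1
  · -- the column vanishes
    let L : (Fin 6 → F) →ₗ[F] Fin 5 → F :=
      { toFun := fun u => ![(M *ᵥ u) 0, (M *ᵥ u) 1, (M *ᵥ u) 2, u 1, u 2]
        map_add' := fun u v => by ext s; fin_cases s <;> simp [Matrix.mulVec_add]
        map_smul' := fun c v => by ext s; fin_cases s <;> simp [Matrix.mulVec_smul] }
    obtain ⟨u, hu, hLu⟩ := exists_ker (by norm_num) L
    have hMu : M *ᵥ u = 0 := funext fun r => by
      have h0 := congrFun hLu 0
      have h1' := congrFun hLu 1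
      have h2 := congrFun hLu 2
      fin_cases r <;> simp_all [L]
    have hu1 : u 1 = 0 := by simpa [L] using congrFun hLu 3
    have hu2 : u 2 = 0 := by simpa [L] using congrFun hLu 4
    obtain ⟨k, hk⟩ := Function.ne_iff.1 hu
    rw [Pi.zero_apply] at hk
    have hk1 : k ≠ 1 := fun e => hk (e ▸ hu1)
    have hMe : M *ᵥ e 1 = 0 := funext fun r => by simp [h1 r]
    have hfa : (e k : Fin 6 → F) ⬝ᵥ ((t / u k) • e 1) = 0 := by simp [hk1]
    have hdc : (e 2 : Fin 6 → F) ⬝ᵥ u = 0 := by simp [hu2]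
    refine ⟨tv _ _ hfa, tv _ _ hdc, p_fix_of_kernel hfa (by rw [Matrix.mulVec_smul, hMe, smul_zero]),
      p_fix_of_kernel hdc hMu, ?_⟩
    rw [tv_commutator hfa hdc (by simp)]
    refine tv_congr _ _ ?_ rfl
    rw [single_dotProduct, one_mul, smul_smul, mul_div_cancel₀ _ hk]
  · -- a coordinate vector is in the row space
    rw [li_iff] at h1
    push Not at h1
    obtain ⟨y, hy, hy0⟩ := h1
    have hyM : ∀ c, c ≠ 2 → (y ᵥ* M) c = 0 := fun c hc => by
      obtain ⟨c', rfl⟩ := Fin.exists_succAbove_eq hc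
      exact congrFun hy c'
    have hM' := (li_iff M).1 hM
    have hy2 : (y ᵥ* M) 2 ≠ 0 := fun h0 => hy0 (hM' y (funext fun c => by
      by_cases hc : c = 2
      · rw [hc]; exact h0
      · exact hyM c hc))
    set w : Fin 3 → F := ((y ᵥ* M) 2)⁻¹ • y with hwdef
    have hw : (e 2 : Fin 6 → F) = w ᵥ* M := funext fun c => by
      rw [hwdef, Matrix.smul_vecMul, Pi.smul_apply, smul_eq_mul]
      by_cases hc : c = 2
      · subst hc; simp [inv_mul_cancel₀ hy2]
      · rw [hyM c hc, mul_zero]; simp [hc]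
    let L : (Fin 3 → F) →ₗ[F] Fin 2 → F :=
      { toFun := fun z => ![(z ᵥ* M) 1, (z ᵥ* M) 2]
        map_add' := fun u v => by ext s; fin_cases s <;> simp [Matrix.add_vecMul]
        map_smul' := fun c v => by ext s; fin_cases s <;> simp [Matrix.smul_vecMul] }
    obtain ⟨z, hz, hLz⟩ := exists_ker (by norm_num) L
    have hz1 : (z ᵥ* M) 1 = 0 := by simpa [L] using congrFun hLz 0
    have hz2 : (z ᵥ* M) 2 = 0 := by simpa [L] using congrFun hLz 1
    obtain ⟨k, hk⟩ := Function.ne_iff.1 fun e0 : z ᵥ* M = 0 => hz (hM' z e0)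
    rw [Pi.zero_apply] at hk
    have hk2 : k ≠ 2 := fun e => hk (e ▸ hz2)
    have hfa : (z ᵥ* M) ⬝ᵥ (e 1) = 0 := by simp [hz1]
    have hdc : (e 2 : Fin 6 → F) ⬝ᵥ ((t / (z ᵥ* M) k) • e k) = 0 := by simp [hk2.symm]
    refine ⟨tv _ _ hfa, tv _ _ hdc, p_fix_of_row hfa rfl, p_fix_of_row hdc hw, ?_⟩
    rw [tv_commutator hfa hdc (by simp)]
    refine tv_congr _ _ ?_ rfl
    rw [dotProduct_smul, dotProduct_single, mul_one, smul_eq_mul, div_mul_cancel₀ _ hk]

end Cfsg.Agent.E6Deg
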