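import Cfsg.Agent.E6Deg.Elems
import Cfsg.Agent.E6Deg.Witness
import Cfsg.Agent.E6Deg.Proj
import Cfsg.Agent.SteinbergSL.Pres
import Mathlib.GroupTheory.QuotientGroup.Basic
import Mathlib.NumberTheory.LegendreSymbol.AddCharacter

/-!
The radical, the characters of its abelian quotient and the action of the Levi subgroup on them.
-/

set_option autoImplicit false
set_option maxRecDepth 100000

namespace Cfsg.Agent.E6Deg

open Cfsg.Lie Matrix
open scoped commutatorElement

universe u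

variable (F : Type u) [Field F]

/-- The generators of the radical. -/
def gensQ : Set (Gp F) := Set.range (fun x : Fin 20 × F => xs x.1 x.2) ∪ Set.range zz

/-- The radical. -/
def HQ : Subgroup (Gp F) := Subgroup.closure (gensQ F)

variable {F}

theorem xs_mem (S : Fin 20) (u : F) : xs S u ∈ HQ F :=
  Subgroup.subset_closure (Or.inl ⟨(S, u), rfl⟩)

theorem zz_mem (v : F) : zz v ∈ HQ F := Subgroup.subset_closure (Or.inr ⟨v, rfl⟩)

theorem zz_commute_mem {g : Gp F} (hg : g ∈ HQ F) (v : F) : Commute (zz v) g := by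
  refine Subgroup.closure_induction (p := fun x _ => Commute (zz v) x) ?_ (Commute.one_right _)
    (fun _ _ _ _ h1 h2 => h1.mul_right h2) (fun _ _ h => h.inv_right) hg
  rintro _ (⟨⟨S, u⟩, rfl⟩ | ⟨w, rfl⟩)
  · exact zz_commute_xs S u v
  · show zz v * zz w = zz w * zz v
    rw [← zz_add, ← zz_add, add_comm]

/-- The highest root group in the radical. -/
noncomputable def zH : Multiplicative F →* ↥(HQ F) where
  toFun v := ⟨zz v.toAdd, zz_mem _⟩
  map_one' := Subtype.ext zz_zero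
  map_mul' a b := Subtype.ext (zz_add a.toAdd b.toAdd)

variable (F)

/-- The highest root group. -/
noncomputable def ZQ : Subgroup ↥(HQ F) := (zH (F := F)).range

instance : (ZQ F).Normal where
  conj_mem n hn g := by
    obtain ⟨v, rfl⟩ := hn
    have : g * zH v * g⁻¹ = zH v := by
      refine Subtype.ext ?_
      show (g : Gp F) * zz v.toAdd * (g : Gp F)⁻¹ = zz v.toAdd
      rw [← (zz_commute_mem g.2 _).eq, mul_inv_cancel_right]
    rw [this]
    exact ⟨v, rfl⟩

/-- The abelian quotient. -/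
abbrev QB := ↥(HQ F) ⧸ ZQ F

/-- The projection. -/
noncomputable def piQ : ↥(HQ F) →* QB F := QuotientGroup.mk' (ZQ F)

variable {F}

theorem piQ_surjective : Function.Surjective (piQ F) := QuotientGroup.mk'_surjective _

theorem piQ_zz (v : F) : piQ F ⟨zz v, zz_mem v⟩ = 1 :=
  (QuotientGroup.eq_one_iff _).2 ⟨Multiplicative.ofAdd v, rfl⟩

theorem radical_induction {P : ↥(HQ F) → Prop} (hx : ∀ S u, P ⟨xs S u, xs_mem S u⟩)
    (hz : ∀ v, P ⟨zz v, zz_mem v⟩) (h1 : P 1) (hm : ∀ a b, P a → P b → P (a * b))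
    (hi : ∀ a, P a → P a⁻¹) (h : ↥(HQ F)) : P h := by
  obtain ⟨g, hg⟩ := h
  refine Subgroup.closure_induction (p := fun x hx => P ⟨x, hx⟩) ?_ h1
    (fun x y hx hy => hm ⟨x, hx⟩ ⟨y, hy⟩) (fun x hx => hi ⟨x, hx⟩) hg
  rintro _ (⟨⟨S, u⟩, rfl⟩ | ⟨w, rfl⟩)
  exacts [hx S u, hz w]

theorem piQ_comm (a b : ↥(HQ F)) : Commute (piQ F a) (piQ F b) := by
  induction a using radical_induction with
  | hz v => rw [piQ_zz]; exact Commute.one_left _
  | h1 => rw [map_one]; exact Commute.one_left _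
  | hm x y hx hy => rw [map_mul]; exact hx.mul_left hy
  | hi x hx => rw [map_inv]; exact hx.inv_left
  | hx S u =>
    induction b using radical_induction with
    | hz v => rw [piQ_zz]; exact Commute.one_right _
    | h1 => rw [map_one]; exact Commute.one_right _
    | hm x y hx hy => rw [map_mul]; exact hx.mul_right hy
    | hi x hx => rw [map_inv]; exact hx.inv_right
    | hx S' v =>
      by_cases h : S = S'.rev
      · subst h
        have e : (⟨xs S'.rev u, xs_mem _ _⟩ : ↥(HQ F)) * ⟨xs S' v, xs_mem _ _⟩ =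
            ⟨xs S' v, xs_mem _ _⟩ * ⟨zz ((cQ S' : F) * v * u), zz_mem _⟩ * ⟨xs S'.rev u, xs_mem _ _⟩ := by
          refine Subtype.ext ?_
          show xs S'.rev u * xs S' v = xs S' v * zz _ * xs S'.rev u
          rw [← xs_pair, inv_mul_cancel_right]
        show piQ F _ * piQ F _ = piQ F _ * piQ F _
        rw [← map_mul, e, map_mul, map_mul, piQ_zz, mul_one]
      · have e : (⟨xs S u, xs_mem S u⟩ : ↥(HQ F)) * ⟨xs S' v, xs_mem S' v⟩ =
            ⟨xs S' v, xs_mem S' v⟩ * ⟨xs S u, xs_mem S u⟩ := Subtype.ext (xs_commute h v u).eq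
        show piQ F _ * piQ F _ = piQ F _ * piQ F _
        rw [← map_mul, ← map_mul, e]

noncomputable instance : CommGroup (QB F) :=
  { (inferInstance : Group (QB F)) with
    mul_comm := fun a b => by
      obtain ⟨x, rfl⟩ := piQ_surjective a
      obtain ⟨y, rfl⟩ := piQ_surjective b
      exact piQ_comm x y }

variable [Fintype F]

theorem exists_psi : ∃ ψ : AddChar F ℂ, ψ.IsPrimitive := by
  obtain ⟨ψ, hψ⟩ : ∃ ψ : AddChar F ℂ, ψ 1 ≠ 1 := AddChar.exists_apply_ne_zero.2 one_ne_zero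
  exact ⟨ψ, AddChar.IsPrimitive.of_ne_one fun h => hψ (by rw [h, AddChar.one_apply])⟩

variable (F)

/-- A fixed primitive character of the field. -/
noncomputable def psi : AddChar F ℂ := exists_psi.choose

theorem psi_prim : (psi F).IsPrimitive := exists_psi.choose_spec

variable {F}

/-- The value of a character at a root element. -/
noncomputable def lamX (Λ : AddChar (Additive (QB F)) ℂ) (S : Fin 20) : AddChar F ℂ where
  toFun u := lamH (piQ F) Λ ⟨xs S u, xs_mem S u⟩
  map_zero_eq_one' := by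
    rw [show (⟨xs S (0 : F), xs_mem S 0⟩ : ↥(HQ F)) = 1 from
      Subtype.ext (show xs S (0 : F) = 1 by rw [xs, mul_zero, xx_zero]), lamH_one]
  map_add_eq_mul' a b := by
    rw [← lamH_mul]
    congr 1
    exact Subtype.ext (xs_add S a b)

theorem exists_coord (Λ : AddChar (Additive (QB F)) ℂ) (S : Fin 20) :
    ∃ B : F, ∀ u, lamH (piQ F) Λ ⟨xs S u, xs_mem S u⟩ = psi F (B * u) := by
  obtain ⟨B, hB⟩ := ((Fintype.bijective_iff_injective_and_card _).2
    ⟨AddChar.to_mulShift_inj_of_isPrimitive (psi_prim F), AddChar.card_eq.symm⟩).2 (lamX Λ S)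
  refine ⟨B, fun u => ?_⟩
  have h := DFunLike.congr_fun hB u
  rw [AddChar.mulShift_apply] at h
  exact h.symm

/-- The coordinates of a character. -/
noncomputable def BQ (Λ : AddChar (Additive (QB F)) ℂ) : Fin 20 → F :=
  fun S => (exists_coord Λ S).choose

theorem BQ_spec (Λ : AddChar (Additive (QB F)) ℂ) (S : Fin 20) (u : F) :
    lamH (piQ F) Λ ⟨xs S u, xs_mem S u⟩ = psi F (BQ Λ S * u) :=
  (exists_coord Λ S).choose_spec u

theorem BQ_eq {Λ : AddChar (Additive (QB F)) ℂ} {S : Fin 20} {b : F}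
    (h : ∀ u, lamH (piQ F) Λ ⟨xs S u, xs_mem S u⟩ = psi F (b * u)) : BQ Λ S = b := by
  refine AddChar.to_mulShift_inj_of_isPrimitive (psi_prim F) (DFunLike.ext _ _ fun u => ?_)
  rw [AddChar.mulShift_apply, AddChar.mulShift_apply, ← BQ_spec, h]

theorem lam_zz (Λ : AddChar (Additive (QB F)) ℂ) (v : F) :
    lamH (piQ F) Λ ⟨zz v, zz_mem v⟩ = 1 := by
  rw [lamH, piQ_zz, ofMul_one, AddChar.map_zero_eq_one]

theorem BQ_injective : Function.Injective (BQ : AddChar (Additive (QB F)) ℂ → Fin 20 → F) := by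
  intro Λ Λ' h
  refine DFunLike.ext _ _ fun a => ?_
  obtain ⟨x, hx⟩ := piQ_surjective a.toMul
  have : lamH (piQ F) Λ x = lamH (piQ F) Λ' x := by
    induction x using radical_induction generalizing a with
    | hx S u => rw [BQ_spec, BQ_spec, h]
    | hz v => rw [lam_zz, lam_zz]
    | h1 => rw [lamH_one, lamH_one]
    | hm x y ih1 ih2 =>
      rw [lamH_mul, lamH_mul, ih1 (Additive.ofMul (piQ F x)) rfl, ih2 (Additive.ofMul (piQ F y)) rfl]
    | hi x ih =>
      have e := ih (Additive.ofMul (piQ F x)) rfl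
      have h1 := lamH_inv_mul (piQ F) Λ x
      have h2 := lamH_inv_mul (piQ F) Λ' x
      rw [e] at h1
      exact mul_right_cancel₀ (right_ne_zero_of_mul_eq_one h2) (h1.trans h2.symm)
  simpa only [lamH, hx, ofMul_toMul] using this

theorem BQ_zero : BQ (0 : AddChar (Additive (QB F)) ℂ) = 0 := funext fun S => BQ_eq fun u => by
  rw [lamH, Pi.zero_apply, zero_mul, AddChar.map_zero_eq_one, AddChar.zero_apply]

theorem BQ_eq_zero {Λ : AddChar (Additive (QB F)) ℂ} (h : BQ Λ = 0) : Λ = 0 :=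
  BQ_injective (h.trans BQ_zero.symm)

/-! ### Conjugation -/

omit [Fintype F] in
/-- An element normalising the radical and centralising the highest root group. -/
def Nrm (g : Gp F) : Prop := (∀ h ∈ HQ F, g * h * g⁻¹ ∈ HQ F) ∧ ∀ v, Commute g (zz v)

omit [Fintype F] in
theorem nrm_mul {g h : Gp F} (hg : Nrm g) (hh : Nrm h) : Nrm (g * h) := by
  refine ⟨fun x hx => ?_, fun v => (hg.2 v).mul_left (hh.2 v)⟩
  rw [show g * h * x * (g * h)⁻¹ = g * (h * x * h⁻¹) * g⁻¹ by group]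
  exact hg.1 _ (hh.1 x hx)

omit [Fintype F] in
theorem xsO_mem (x : Option (Fin 20 × ℤ)) (w : F) : xsO x w ∈ HQ F := by
  cases x with
  | none => exact one_mem _
  | some x => exact xs_mem _ _

omit [Fintype F] in
theorem nrm_xl {i j : Fin 6} (hij : i ≠ j) (a : F) : Nrm (xl i j a) := by
  refine ⟨fun h hh => ?_, fun v => (zz_commute_xl hij a v).symm⟩
  refine Subgroup.closure_induction (p := fun x _ => xl i j a * x * (xl i j a)⁻¹ ∈ HQ F) ?_ ?_ ?_ ?_ hh
  · rintro _ (⟨⟨S, u⟩, rfl⟩ | ⟨w, rfl⟩)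
    · rw [xl_conj i j hij]
      exact mul_mem (xs_mem S u) (xsO_mem _ _)
    · rw [← (zz_commute_xl hij a w).eq, mul_inv_cancel_right]
      exact zz_mem w
  · rw [mul_one, mul_inv_cancel]; exact one_mem _
  · intro x y _ _ hx hy
    rw [show xl i j a * (x * y) * (xl i j a)⁻¹ =
      (xl i j a * x * (xl i j a)⁻¹) * (xl i j a * y * (xl i j a)⁻¹) by group]
    exact mul_mem hx hy
  · intro x _ hx
    rw [show xl i j a * x⁻¹ * (xl i j a)⁻¹ = (xl i j a * x * (xl i j a)⁻¹)⁻¹ by group]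
    exact inv_mem hx

omit [Fintype F] in
/-- Conjugation on the radical. -/
noncomputable def conjH {g : Gp F} (hg : Nrm g) : ↥(HQ F) →* ↥(HQ F) where
  toFun h := ⟨g * h * g⁻¹, hg.1 _ h.2⟩
  map_one' := Subtype.ext (by simp)
  map_mul' a b := Subtype.ext (by simp [mul_assoc])

/-- Conjugation on the radical, as a bijection. -/
noncomputable def conjE {g : Gp F} (hg : Nrm g) : ↥(HQ F) ≃ ↥(HQ F) :=
  haveI : Finite (Gp F) := inferInstance
  Equiv.ofBijective (conjH hg) (Finite.injective_iff_bijective.1 fun a b h => Subtype.ext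
    (mul_left_cancel (mul_right_cancel (congrArg Subtype.val h))))

theorem conjE_val {g : Gp F} (hg : Nrm g) (h : ↥(HQ F)) : (conjE hg h : Gp F) = g * h * g⁻¹ := rfl

omit [Fintype F] in
theorem zQ_le {g : Gp F} (hg : Nrm g) : ZQ F ≤ (ZQ F).comap (conjH hg) := by
  rintro _ ⟨v, rfl⟩
  refine ⟨v, Subtype.ext ?_⟩
  show zz v.toAdd = g * zz v.toAdd * g⁻¹
  rw [(hg.2 _).eq, mul_inv_cancel_right]

/-- The transformed character. -/
noncomputable def actL {g : Gp F} (hg : Nrm g) (Λ : AddChar (Additive (QB F)) ℂ) :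
    AddChar (Additive (QB F)) ℂ :=
  Λ.compAddMonoidHom (QuotientGroup.map (ZQ F) (ZQ F) (conjH hg) (zQ_le hg)).toAdditive

theorem lamH_actL {g : Gp F} (hg : Nrm g) (Λ : AddChar (Additive (QB F)) ℂ) (h : ↥(HQ F)) :
    lamH (piQ F) (actL hg Λ) h = lamH (piQ F) Λ (conjE hg h) := rfl

theorem actL_mul {g h : Gp F} (hg : Nrm g) (hh : Nrm h) (Λ : AddChar (Additive (QB F)) ℂ) :
    actL (nrm_mul hg hh) Λ = actL hh (actL hg Λ) := by
  refine DFunLike.ext _ _ fun a => ?_
  obtain ⟨x, hx⟩ := piQ_surjective a.toMul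
  obtain rfl : a = Additive.ofMul (piQ F x) := hx ▸ rfl
  show lamH (piQ F) (actL (nrm_mul hg hh) Λ) x = lamH (piQ F) (actL hh (actL hg Λ)) x
  rw [lamH_actL, lamH_actL, lamH_actL]
  congr 1
  refine Subtype.ext ?_
  rw [conjE_val, conjE_val, conjE_val]
  group

theorem actL_zero {g : Gp F} (hg : Nrm g) : actL hg (0 : AddChar (Additive (QB F)) ℂ) = 0 :=
  DFunLike.ext _ _ fun _ => rfl

theorem BQ_actL_xl {i j : Fin 6} (hij : i ≠ j) (a : F) (Λ : AddChar (Additive (QB F)) ℂ) :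
    BQ (actL (nrm_xl hij a) Λ) = op i j a (BQ Λ) := by
  funext S
  refine BQ_eq fun u => ?_
  rw [lamH_actL]
  have e : conjE (nrm_xl hij a) ⟨xs S u, xs_mem S u⟩ =
      ⟨xs S u, xs_mem S u⟩ * ⟨xsO (opTgt i j S) (a * u), xsO_mem _ _⟩ :=
    Subtype.ext (xl_conj i j hij S a u)
  rw [e, lamH_mul, BQ_spec, op, add_mul, AddChar.map_add_eq_mul]
  congr 1
  cases opTgt i j S with
  | none =>
    show lamH (piQ F) Λ ⟨1, _⟩ = psi F (a * ev _ none * u)
    rw [show (⟨1, _⟩ : ↥(HQ F)) = 1 from rfl, lamH_one, ev, mul_zero, zero_mul,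
      AddChar.map_zero_eq_one]
  | some x =>
    obtain ⟨m, s⟩ := x
    show lamH (piQ F) Λ ⟨xs m ((s : F) * (a * u)), _⟩ = _
    rw [BQ_spec, ev]
    congr 1
    ring

/-- The homomorphism from `SL(6, q)`. -/
theorem exists_phi : ∃ Φ : SpecialLinearGroup (Fin 6) F →* Gp F,
    ∀ i j (h : i ≠ j) a, Φ (SpecialLinearGroup.transvection h a) = xl i j a :=
  SteinbergSL.exists_hom (by norm_num) xl (fun i j _ => xl_add i j) xl_comm xl_rel

variable (F)

/-- The Levi subgroup as an image of `SL(6, q)`. -/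
noncomputable def Phi : SpecialLinearGroup (Fin 6) F →* Gp F := exists_phi.choose

variable {F}

theorem Phi_transvection {i j : Fin 6} (h : i ≠ j) (a : F) :
    Phi F (SpecialLinearGroup.transvection h a) = xl i j a := exists_phi.choose_spec i j h a

theorem phi_action [DecidableEq F] (A : SpecialLinearGroup (Fin 6) F) :
    ∃ hg : Nrm (Phi F A), ∀ Λ M, BQ Λ = p M → BQ (actL hg Λ) = p (M * A.1) := by
  have hT : ∀ {i j : Fin 6} (hij : i ≠ j) (c : F),
      ∃ hg : Nrm (Phi F (SpecialLinearGroup.transvection hij c)), ∀ Λ M, BQ Λ = p M →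
        BQ (actL hg Λ) = p (M * (SpecialLinearGroup.transvection hij c).1) := by
    intro i j hij c
    rw [Phi_transvection hij c]
    refine ⟨nrm_xl hij c, fun Λ M h => ?_⟩
    rw [BQ_actL_xl hij, h, ← p_mul_transvection M hij c]
    rfl
  have hM : ∀ {A B : SpecialLinearGroup (Fin 6) F},
      (∃ hg : Nrm (Phi F A), ∀ Λ M, BQ Λ = p M → BQ (actL hg Λ) = p (M * A.1)) →
      (∃ hg : Nrm (Phi F B), ∀ Λ M, BQ Λ = p M → BQ (actL hg Λ) = p (M * B.1)) →
      (∃ hg : Nrm (Phi F (A * B)), ∀ Λ M, BQ Λ = p M → BQ (actL hg Λ) = p (M * (A * B).1)) := by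
    rintro A B ⟨hA, hA'⟩ ⟨hB, hB'⟩
    rw [map_mul]
    refine ⟨nrm_mul hA hB, fun Λ M h => ?_⟩
    rw [actL_mul hA hB, hB' _ _ (hA' Λ M h), sl_val_mul, Matrix.mul_assoc]
  refine SpecialLinearGroup.diagonal_transvection_induction'
    (fun A => ∃ hg : Nrm (Phi F A), ∀ Λ M, BQ Λ = p M → BQ (actL hg Λ) = p (M * A.1)) A ?_ ?_ ?_
  · intro i j hij c hc
    rw [Cfsg.Agent.Classical.diag2n_decompose hij c hc]
    exact hM (hM (hM (hM (hM (hT _ _) (hT _ _)) (hT _ _)) (hT _ _)) (hT _ _)) (hT _ _)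
  · intro i j hij c
    exact hT hij c
  · exact fun A B hA hB => hM hA hB

end Cfsg.Agent.E6Deg
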