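import Cfsg.Agent.E6Deg.Shift
import Cfsg.Agent.E6Deg.Dichotomy
import Cfsg.Agent.OrthDeg.SLRep

/-!
The multiplicities of the characters of the radical.
-/

set_option autoImplicit false
set_option maxRecDepth 100000

namespace Cfsg.Agent.E6Deg

open Cfsg.Lie Matrix
open scoped commutatorElement

universe u

variable {F : Type u} [Field F] [Fintype F] {k : ℕ} (ρ : Representation ℂ (Gp F) (Fin k → ℂ))

noncomputable instance : Fintype ↥(HQ F) := Fintype.ofFinite _

noncomputable instance : Fintype (QB F) := Fintype.ofFinite _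

noncomputable instance : DecidableEq (QB F) := Classical.decEq _

noncomputable instance : Fintype (AddChar (Additive (QB F)) ℂ) := Fintype.ofFinite _

/-- The multiplicity of a character. -/
noncomputable def dd (Λ : AddChar (Additive (QB F)) ℂ) : ℕ := pdim ρ (piQ F) Λ

/-- The projection on its eigenspace. -/
noncomputable def PP (Λ : AddChar (Additive (QB F)) ℂ) : Module.End ℂ (Fin k → ℂ) :=
  proj ρ (piQ F) Λ

theorem zH_injective : Function.Injective (zH : Multiplicative F → ↥(HQ F)) := fun a b h =>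
  Multiplicative.toAdd.injective (zz_injective (congrArg Subtype.val h))

theorem card_HQ : Fintype.card ↥(HQ F) = Fintype.card (QB F) * Fintype.card F := by
  have h := Subgroup.card_eq_card_quotient_mul_card_subgroup (ZQ F)
  have hZ : Nat.card ↥(ZQ F) = Fintype.card F := by
    rw [ZQ, Nat.card_congr (MonoidHom.ofInjective (zH_injective (F := F))).toEquiv.symm,
      Nat.card_congr (Multiplicative.toAdd (α := F)), Nat.card_eq_fintype_card]
  rw [hZ, Nat.card_eq_fintype_card, Nat.card_eq_fintype_card] at h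
  exact h

theorem trace_sum (a : Gp F) (g : ↥(HQ F)) :
    (Fintype.card F : ℂ) *
        ∑ Λ, lamH (piQ F) Λ g * LinearMap.trace ℂ _ (ρ a * PP ρ Λ) =
      ∑ v, ρ.character (a * ((g : Gp F) * zz v)) := by
  classical
  let f : F → ↥(HQ F) := fun v => g * zH (Multiplicative.ofAdd v)
  have hf : Function.Injective f := fun x y h =>
    Multiplicative.ofAdd.injective (zH_injective (mul_left_cancel h))
  have him : Finset.univ.filter (fun h => piQ F h = piQ F g) = Finset.univ.image f := by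
    ext h
    simp only [Finset.mem_filter, Finset.mem_univ, true_and, Finset.mem_image]
    constructor
    · intro hh
      obtain ⟨v, hv⟩ := QuotientGroup.eq.1 hh.symm
      refine ⟨v.toAdd, ?_⟩
      show g * zH (Multiplicative.ofAdd v.toAdd) = h
      rw [ofAdd_toAdd, hv, mul_inv_cancel_left]
    · rintro ⟨v, rfl⟩
      show piQ F (g * zH (Multiplicative.ofAdd v)) = piQ F g
      rw [map_mul, mul_eq_left]
      exact piQ_zz v
  have h := congrArg (fun X : Module.End ℂ (Fin k → ℂ) => LinearMap.trace ℂ _ (ρ a * X))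
    (sum_proj ρ (piQ F) g)
  simp only [mul_smul_comm, map_smul, Finset.mul_sum, map_sum, him,
    Finset.sum_image fun x _ y _ e => hf e, card_HQ, Nat.cast_mul, smul_eq_mul] at h
  rw [Finset.mul_sum]
  refine mul_left_cancel₀ (Nat.cast_ne_zero.2 (Fintype.card_ne_zero (α := QB F))) ?_
  rw [Finset.mul_sum, Finset.mul_sum]
  convert h using 1
  · exact Finset.sum_congr rfl fun Λ _ => by rw [PP]; ring
  · refine Finset.sum_congr rfl fun v _ => ?_
    rw [← map_mul ρ]
    rfl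

theorem sum_dd (g : ↥(HQ F)) :
    (Fintype.card F : ℂ) * ∑ Λ, (dd ρ Λ : ℂ) * lamH (piQ F) Λ g =
      ∑ v, ρ.character ((g : Gp F) * zz v) := by
  have h := trace_sum ρ 1 g
  simp only [one_mul, map_one, PP, trace_proj] at h
  rw [← h]
  congr 1
  exact Finset.sum_congr rfl fun Λ _ => mul_comm _ _

theorem sum_dd_total {s : ℕ} (hs : ∑ v, ρ.character (zz v) = (Fintype.card F : ℂ) * s) :
    ∑ Λ, dd ρ Λ = s := by
  have h := sum_dd ρ 1
  simp only [lamH_one, mul_one, Subgroup.coe_one, one_mul] at h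
  rw [hs] at h
  have := mul_left_cancel₀ (Nat.cast_ne_zero.2 (Fintype.card_ne_zero (α := F))) h
  exact_mod_cast this

theorem dd_act {g : Gp F} (hg : Nrm g) (Λ : AddChar (Additive (QB F)) ℂ) :
    dd ρ (actL hg Λ) = dd ρ Λ :=
  pdim_conj ρ (piQ F) (conjE hg) (conjE_val hg) (lamH_actL hg Λ)

theorem proj_act {g : Gp F} (hg : Nrm g) (Λ : AddChar (Additive (QB F)) ℂ) :
    ρ g * PP ρ (actL hg Λ) = PP ρ Λ * ρ g :=
  proj_conj ρ (piQ F) (conjE hg) (conjE_val hg) (lamH_actL hg Λ)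

omit [Fintype F] in
theorem gr_closed : OpClosed (Gr F) := by
  rintro i j hij c _ ⟨M, hM, rfl⟩
  exact ⟨M * (SpecialLinearGroup.transvection hij c : SpecialLinearGroup (Fin 6) F).1, li_mul hM _,
    p_mul_transvection M hij c⟩

omit [Fintype F] in
theorem op_mem_Gr_iff {i j : Fin 6} (hij : i ≠ j) {c : F} {B : Fin 20 → F} :
    op i j c B ∈ Gr F ↔ B ∈ Gr F := by
  refine ⟨fun h => ?_, fun h => gr_closed i j hij c B h⟩
  have := gr_closed i j hij (-c) _ h
  rwa [op_op i j hij, add_neg_cancel, op_zero_c] at this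

/-- A character outside the decomposable ones has a large orbit. -/
theorem orbit_large {Λ₁ : AddChar (Additive (QB F)) ℂ} (h0 : Λ₁ ≠ 0) (hd : 0 < dd ρ Λ₁)
    (hG : BQ Λ₁ ∉ Gr F) :
    Fintype.card F ^ 9 * (Fintype.card F + 1) ≤ ∑ Λ, dd ρ Λ := by
  classical
  set T : Finset (AddChar (Additive (QB F)) ℂ) :=
    Finset.univ.filter fun Λ => dd ρ Λ = dd ρ Λ₁ ∧ BQ Λ ∉ Gr F with hT
  set S : Set (Fin 20 → F) := BQ '' (T : Set (AddChar (Additive (QB F)) ℂ)) with hS
  have hSc : OpClosed S := by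
    rintro i j hij c _ ⟨Λ, hΛ, rfl⟩
    simp only [hT, Finset.coe_filter, Finset.mem_univ, true_and, Set.mem_setOf_eq] at hΛ
    refine ⟨actL (nrm_xl hij c) Λ, ?_, BQ_actL_xl hij c Λ⟩
    simp only [hT, Finset.coe_filter, Finset.mem_univ, true_and, Set.mem_setOf_eq]
    rw [dd_act, BQ_actL_xl hij, op_mem_Gr_iff hij]
    exact hΛ
  have hmem : BQ Λ₁ ∈ S := ⟨Λ₁, by simp [hT, hG], rfl⟩
  rcases dichotomy hSc hmem (fun h => h0 (BQ_eq_zero h)) with ⟨B, ⟨Λ, hΛ, rfl⟩, hBG⟩ | h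
  · simp only [hT, Finset.coe_filter, Finset.mem_univ, true_and, Set.mem_setOf_eq] at hΛ
    exact absurd hBG hΛ.2
  refine h.trans ?_
  have h1 : Nat.card S ≤ T.card := by
    rw [hS, ← Finset.coe_image, Nat.card_coe_set_eq, Set.ncard_coe_finset]
    exact Finset.card_image_le
  refine h1.trans ?_
  rw [Finset.card_eq_sum_ones]
  refine (Finset.sum_le_sum fun Λ hΛ => ?_).trans (Finset.sum_le_univ_sum_of_nonneg (fun _ => Nat.zero_le _))
  simp only [hT, Finset.mem_filter] at hΛ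
  show 1 ≤ dd ρ Λ
  omega

/-- All decomposable trivectors occur with the same multiplicity. -/
theorem gr_realised {Λ₁ : AddChar (Additive (QB F)) ℂ} (hG : BQ Λ₁ ∈ Gr F) {B : Fin 20 → F}
    (hB : B ∈ Gr F) : ∃ Λ, BQ Λ = B ∧ dd ρ Λ = dd ρ Λ₁ := by
  classical
  set S : Set (Fin 20 → F) := BQ '' {Λ | dd ρ Λ = dd ρ Λ₁} with hS
  have hSc : OpClosed S := by
    rintro i j hij c _ ⟨Λ, hΛ, rfl⟩
    exact ⟨actL (nrm_xl hij c) Λ, (dd_act ρ _ Λ).trans hΛ, BQ_actL_xl hij c Λ⟩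
  obtain ⟨Λ, hΛ, hΛB⟩ := gr_subset hSc ⟨Λ₁, rfl, rfl⟩ hG hB
  exact ⟨Λ, hΛB, hΛ⟩

omit [Fintype F] in
/-- The decomposable trivectors as a finite set. -/
noncomputable def grF (F : Type u) [Field F] [Fintype F] [DecidableEq F] : Finset (Fin 20 → F) :=
  (Set.toFinite (Gr F)).toFinset

theorem mem_grF [DecidableEq F] {B : Fin 20 → F} : B ∈ grF F ↔ B ∈ Gr F :=
  Set.Finite.mem_toFinset _

theorem card_grF [DecidableEq F] (P : (Fin 20 → F) → Prop) [DecidablePred P] :
    ((grF F).filter P).card = Nat.card {B : Fin 20 → F // B ∈ Gr F ∧ P B} := by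
  classical
  rw [Nat.card_eq_fintype_card, Fintype.card_subtype]
  congr 1
  ext B
  simp [mem_grF]

/-- Sums over the characters as sums over the decomposable trivectors. -/
theorem sum_char [DecidableEq F] (hcl : ∀ Λ, Λ ≠ 0 → 0 < dd ρ Λ → BQ Λ ∈ Gr F ∧ dd ρ Λ = 1)
    (hex : ∀ B ∈ Gr F, ∃ Λ, BQ Λ = B ∧ dd ρ Λ = 1)
    (f : (Fin 20 → F) → ℂ) (g : AddChar (Additive (QB F)) ℂ → ℂ)
    (hg0 : g 0 = (dd ρ 0 : ℂ) * f 0)
    (hg1 : ∀ Λ, BQ Λ ∈ Gr F → dd ρ Λ = 1 → g Λ = f (BQ Λ))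
    (hg2 : ∀ Λ, dd ρ Λ = 0 → g Λ = 0) :
    ∑ Λ, g Λ = (dd ρ 0 : ℂ) * f 0 + ∑ B ∈ grF F, f B := by
  classical
  rw [← Finset.add_sum_erase _ _ (Finset.mem_univ (0 : AddChar (Additive (QB F)) ℂ)), hg0]
  congr 1
  refine (Finset.sum_subset (s₁ := Finset.univ.filter fun Λ => BQ Λ ∈ Gr F ∧ dd ρ Λ = 1) ?_ ?_).symm.trans ?_
  · intro Λ hΛ
    simp only [Finset.mem_filter] at hΛ
    refine Finset.mem_erase.2 ⟨fun h => zero_not_mem_Gr (F := F) ?_, Finset.mem_univ _⟩
    rw [← BQ_zero (F := F), ← h]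
    exact hΛ.2.1
  · intro Λ hΛ hnot
    simp only [Finset.mem_filter, Finset.mem_univ, true_and] at hnot
    refine hg2 Λ (Nat.eq_zero_of_not_pos fun hp => hnot (hcl Λ (Finset.ne_of_mem_erase hΛ) hp))
  · refine Finset.sum_bij (fun Λ _ => BQ Λ) (fun Λ hΛ => ?_) (fun a _ b _ h => BQ_injective h)
      (fun B hB => ?_) (fun Λ hΛ => ?_)
    · simp only [Finset.mem_filter] at hΛ
      exact mem_grF.2 hΛ.2.1
    · obtain ⟨Λ, h1, h2⟩ := hex B (mem_grF.1 hB)
      exact ⟨Λ, by simp [h1, h2, mem_grF.1 hB], h1⟩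
    · simp only [Finset.mem_filter] at hΛ
      exact hg1 Λ hΛ.2.1 hΛ.2.2

/-- The Levi subgroup acts trivially on the fixed space of the radical. -/
theorem phi_fix [DecidableEq F]
    (hd : dd ρ 0 < (Fintype.card F ^ 6 - Fintype.card F) / (Fintype.card F - 1))
    (A : SpecialLinearGroup (Fin 6) F) : ρ (Phi F A) * PP ρ 0 = PP ρ 0 := by
  classical
  have hcomm : ∀ B : SpecialLinearGroup (Fin 6) F, ρ (Phi F B) * PP ρ 0 = PP ρ 0 * ρ (Phi F B) := fun B => by
    obtain ⟨hg, -⟩ := phi_action B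
    have := proj_act ρ hg 0
    rwa [actL_zero] at this
  set R := LinearMap.range (PP ρ 0) with hR
  have hinv : ∀ B, ∀ v ∈ R, ρ (Phi F B) v ∈ R := by
    rintro B _ ⟨x, rfl⟩
    exact ⟨ρ (Phi F B) x, (LinearMap.congr_fun (hcomm B) x).symm⟩
  let π : Representation ℂ (SLDeg.SLn (3 + 3) F) R :=
    { toFun := fun B => (ρ (Phi F B)).restrict (hinv B)
      map_one' := by ext w; simp
      map_mul' := fun B B' => by ext w; simp }
  have htriv : ∀ B w, π B w = w := by
    by_contra hc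
    push Not at hc
    have := OrthDeg.sl_rep_large_gen (m := 3) π (fun h => absurd h (by omega))
      (fun h => absurd h (by omega)) hc
    exact absurd (this.trans_eq rfl) (not_le.2 hd)
  refine LinearMap.ext fun x => ?_
  exact congrArg Subtype.val (htriv A ⟨PP ρ 0 x, LinearMap.mem_range_self _ x⟩)

/-- The test element on each eigenspace. -/
theorem trace_test [DecidableEq F]
    (hd : dd ρ 0 < (Fintype.card F ^ 6 - Fintype.card F) / (Fintype.card F - 1))
    {t : F} (ht : t ≠ 0) :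
    (LinearMap.trace ℂ _ (ρ (xl 1 2 t) * PP ρ 0) = (dd ρ 0 : ℂ)) ∧
    (∀ Λ, dd ρ Λ = 0 → LinearMap.trace ℂ _ (ρ (xl 1 2 t) * PP ρ Λ) = 0) ∧
    (∀ Λ, BQ Λ ∈ Gr F → dd ρ Λ = 1 →
      (FixB (BQ Λ) → LinearMap.trace ℂ _ (ρ (xl 1 2 t) * PP ρ Λ) = 1) ∧
      (¬ FixB (BQ Λ) → LinearMap.trace ℂ _ (ρ (xl 1 2 t) * PP ρ Λ) = 0)) := by
  have h12 : (1 : Fin 6) ≠ 2 := by decide
  refine ⟨?_, fun Λ h => ?_, fun Λ hG h1 => ⟨fun hfix => ?_, fun hfix => ?_⟩⟩
  · rw [← Phi_transvection h12, phi_fix ρ hd]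
    exact trace_proj ρ (piQ F) 0
  · rw [PP, proj_eq_zero ρ (piQ F) h, mul_zero, map_zero]
  · obtain ⟨M, hM, hpM⟩ := hG
    rw [← hpM] at hfix
    obtain ⟨A, B, hA, hB, hAB⟩ := exists_witness hM (fixM_of_fixB hM hfix) t
    have hstab : ∀ C : SpecialLinearGroup (Fin 6) F, p (M * C.1) = p M →
        ρ (Phi F C) * PP ρ Λ = PP ρ Λ * ρ (Phi F C) := fun C hC => by
      obtain ⟨hg, hact⟩ := phi_action C
      have e : actL hg Λ = Λ := BQ_injective ((hact Λ M hpM.symm).trans (hC.trans hpM))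
      have := proj_act ρ hg Λ
      rwa [e] at this
    rw [← Phi_transvection h12, ← hAB, map_commutatorElement, commutatorElement_def,
      PP, commutator_fix ρ (piQ F) h1 (hstab A hA) (hstab B hB), trace_proj]
    rw [show pdim ρ (piQ F) Λ = 1 from h1, Nat.cast_one]
  · refine trace_eq_zero_of_moved ρ (piQ F) piQ_surjective (conjE (nrm_xl h12 t))
      (conjE_val _) (lamH_actL _ Λ) fun e => hfix fun n => ?_
    have h := congrFun (congrArg BQ e) n
    rw [BQ_actL_xl h12, op] at h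
    exact (mul_eq_zero.1 (add_eq_left.1 h)).resolve_left ht

end Cfsg.Agent.E6Deg
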