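import Cfsg.Agent.E6Deg.Radical
import Cfsg.Agent.D4Deg.Fourier
import Cfsg.Agent.Char.Integral
import Cfsg.Agent.Chev.SimpleAll

/-!
The character on the root groups of the radical.
-/

set_option autoImplicit false
set_option maxRecDepth 100000

namespace Cfsg.Agent.E6Deg

open Cfsg.Lie

universe u

variable {F : Type u} [Field F] {k : ℕ} (ρ : Representation ℂ (Gp F) (Fin k → ℂ))

/-- A character is constant on a coset of the highest root group that is a class. -/
theorem char_shift {g : Gp F} {c : F} (hc : c ≠ 0)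
    (h : ∀ v, ∃ P : Gp F, P * g * P⁻¹ = g * zz (c * v)) (w : F) :
    ρ.character (g * zz w) = ρ.character g := by
  obtain ⟨P, hP⟩ := h (c⁻¹ * w)
  rw [mul_inv_cancel_left₀ hc] at hP
  rw [← hP, ρ.char_conj]

theorem vanish_xs (S : Fin 20) {u : F} (hu : u ≠ 0) (w : F) :
    ρ.character (xs S u * zz w) = ρ.character (xs S u) :=
  char_shift ρ (mul_ne_zero (cQ_ne S) hu) (fun v => ⟨xs S.rev v, xs_pair S u v⟩) w

theorem vanish_two {u w : F} (h : u ≠ 0 ∨ w ≠ 0) (v : F) :
    ρ.character (xs 0 u * xs 7 w * zz v) = ρ.character (xs 0 u * xs 7 w) := by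
  by_cases hu : u = 0
  · have h0 : xs 0 u = (1 : Gp F) := by rw [hu, xs, mul_zero, xx_zero]
    rw [h0, one_mul]
    exact vanish_xs ρ 7 (h.resolve_left (fun h' => h' hu)) v
  · refine char_shift ρ (mul_ne_zero (cQ_ne 0) hu) (fun x => ⟨xs (0 : Fin 20).rev x, ?_⟩) v
    rw [show xs (0 : Fin 20).rev x * (xs 0 u * xs 7 w) * (xs (0 : Fin 20).rev x)⁻¹ =
      xs (0 : Fin 20).rev x * xs 0 u * (xs (0 : Fin 20).rev x)⁻¹ *
        (xs (0 : Fin 20).rev x * xs 7 w * (xs (0 : Fin 20).rev x)⁻¹) by group,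
      (xs_commute (S := 7) (S' := (0 : Fin 20).rev) (by decide) w x).eq, mul_inv_cancel_right,
      xs_pair, mul_assoc, mul_assoc, (zz_commute_xs 7 w _).eq]; simp only [mul_assoc]

/-- The coordinates of the abelian subgroup. -/
def sA (i : Fin 10) : Fin 20 := Fin.castLE (by norm_num) i

theorem sA_rev : ∀ i j : Fin 10, sA j ≠ (sA i).rev := by decide +kernel

theorem sA_rev' : ∀ i j : Fin 10, i ≠ j → (sA i).rev ≠ (sA j).rev := by decide +kernel

/-- An element of the abelian subgroup. -/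
noncomputable def prodA : List (Fin 10) → (Fin 10 → F) → Gp F
  | [], _ => 1
  | i :: l, a => xs (sA i) (a i) * prodA l a

theorem prodA_commute (i : Fin 10) (u : F) (a : Fin 10 → F) :
    ∀ l : List (Fin 10), Commute (xs (sA i) u) (prodA l a)
  | [] => Commute.one_right _
  | j :: l => (xs_commute (sA_rev j i) (a j) u).mul_right (prodA_commute i u a l)

theorem prodA_mem (a : Fin 10 → F) : ∀ l : List (Fin 10), prodA l a ∈ HQ F
  | [] => one_mem _
  | j :: l => mul_mem (xs_mem _ _) (prodA_mem a l)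

theorem prodA_add (a b : Fin 10 → F) :
    ∀ l : List (Fin 10), prodA l (a + b) = prodA l a * prodA l b
  | [] => (one_mul 1).symm
  | i :: l => by
    show xs (sA i) ((a + b) i) * prodA l (a + b) =
      xs (sA i) (a i) * prodA l a * (xs (sA i) (b i) * prodA l b)
    rw [Pi.add_apply, xs_add, prodA_add a b l, (prodA_commute i (b i) a l).mul_mul_mul_comm]

theorem prodA_conj (i : Fin 10) (v : F) (a : Fin 10 → F) : ∀ l : List (Fin 10), l.Nodup →
    xs (sA i).rev v * prodA l a * (xs (sA i).rev v)⁻¹ =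
      prodA l a * zz (if i ∈ l then (cQ (sA i) : F) * a i * v else 0)
  | [], _ => by simp [prodA, zz_zero]
  | j :: l, h => by
    rw [List.nodup_cons] at h
    show xs (sA i).rev v * (xs (sA j) (a j) * prodA l a) * (xs (sA i).rev v)⁻¹ = _
    rw [show xs (sA i).rev v * (xs (sA j) (a j) * prodA l a) * (xs (sA i).rev v)⁻¹ =
      xs (sA i).rev v * xs (sA j) (a j) * (xs (sA i).rev v)⁻¹ *
        (xs (sA i).rev v * prodA l a * (xs (sA i).rev v)⁻¹) by group, prodA_conj i v a l h.2]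
    by_cases hij : i = j
    · subst hij
      rw [if_neg h.1, if_pos List.mem_cons_self, zz_zero, mul_one, xs_pair, mul_assoc,
        (zz_commute_mem (prodA_mem a l) _).eq, ← mul_assoc]
      rfl
    · rw [(xs_commute (S := sA j) (sA_rev' i j hij) (a j) v).eq, mul_inv_cancel_right, ← mul_assoc]
      simp only [List.mem_cons, hij, false_or]
      rfl

theorem vanish_prodA {a : Fin 10 → F} (ha : a ≠ 0) (w : F) :
    ρ.character (prodA (List.finRange 10) a * zz w) = ρ.character (prodA (List.finRange 10) a) := by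
  obtain ⟨i, hi⟩ := Function.ne_iff.1 ha
  refine char_shift ρ (mul_ne_zero (cQ_ne (sA i)) hi) (fun v => ⟨xs (sA i).rev v, ?_⟩) w
  rw [prodA_conj i v a _ (List.nodup_finRange 10), if_pos (List.mem_finRange i)]

theorem char_zz {v : F} (hv : v ≠ 0) : ρ.character (zz v) = ρ.character (zz (1 : F)) := by
  obtain ⟨g, hg⟩ := exists_torus (Units.mk0 v hv)
  have h := hg 1
  rw [Units.val_mk0, mul_one] at h
  rw [← h, ρ.char_conj]

theorem char_xs_seven {v : F} (hv : v ≠ 0) : ρ.character (xs 7 v) = ρ.character (zz (1 : F)) := by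
  obtain ⟨g, c, d, -, hd, -, hz⟩ := exists_weyl (F := F)
  have h := hz (d⁻¹ * v)
  rw [mul_inv_cancel_left₀ hd] at h
  rw [← h, ρ.char_conj, char_zz ρ (mul_ne_zero (inv_ne_zero hd) hv)]

variable [Fintype F]

/-- The eigenspaces of the highest root group. -/
theorem basic (hρ : ρ.IsIrreducible) (hk : 2 ≤ k) :
    ∃ s m : ℕ, 0 < m ∧ k = s + (Fintype.card F - 1) * (Fintype.card F ^ 10 * m) ∧
      (∑ v, ρ.character (zz v) = (Fintype.card F : ℂ) * s) ∧
      ((Fintype.card F : ℂ) * s =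
        k + ((Fintype.card F : ℂ) - 1) * ρ.character (zz (1 : F))) ∧
      ρ.character (zz (1 : F)) ≠ (k : ℂ) := by
  classical
  haveI := (Chev.e6_simple (F := F)).1
  set q := Fintype.card F with hqdef
  have hq2 : 2 ≤ q := Fintype.one_lt_card
  have hqC : (q : ℂ) ≠ 0 := Nat.cast_ne_zero.2 (by omega)
  set χ : Gp F → ℂ := ρ.character with hχ
  have hdim : Module.finrank ℂ (Fin k → ℂ) = k := by rw [Module.finrank_pi, Fintype.card_fin]
  have hχ1 : χ 1 = (k : ℂ) := by rw [hχ, Representation.char_one, hdim]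
  set c := χ (zz (1 : F)) with hc
  have hnat : Nat.card F = q := Nat.card_eq_fintype_card
  obtain ⟨s, hs⟩ := D4Deg.sum_twist_add ρ (zz (F := F)) zz_add 1
  simp only [AddChar.one_apply, one_mul, hnat] at hs
  have hsplit : ∀ f : F → ℂ, ∑ v, f v = f 0 + ∑ v ∈ Finset.univ.erase 0, f v := fun f =>
    (Finset.add_sum_erase _ _ (Finset.mem_univ 0)).symm
  have hqs : (q : ℂ) * s = k + ((q : ℂ) - 1) * c := by
    rw [← hs, hsplit, zz_zero, ← hχ, hχ1, Finset.sum_congr rfl fun v hv =>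
      char_zz ρ (Finset.ne_of_mem_erase hv), Finset.sum_const,
      Finset.card_erase_of_mem (Finset.mem_univ _), Finset.card_univ, nsmul_eq_mul,
      Nat.cast_sub (by omega : 1 ≤ q), Nat.cast_one]
  obtain ⟨ψ₁, hψ₁⟩ : ∃ ψ : AddChar F ℂ, ψ 1 ≠ 1 := AddChar.exists_apply_ne_zero.2 one_ne_zero
  have hψ₁1 : ψ₁ ≠ 1 := fun h => hψ₁ (by rw [h, AddChar.one_apply])
  obtain ⟨e, he⟩ := D4Deg.sum_twist_add ρ (zz (F := F)) zz_add ψ₁
  rw [hnat, hsplit] at he
  have hψsum : ∑ v ∈ Finset.univ.erase 0, ψ₁ v = -1 := by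
    have h := hsplit (fun v => ψ₁ v)
    rw [AddChar.map_zero_eq_one, AddChar.sum_eq_zero_of_ne_one hψ₁1] at h
    linear_combination -h
  have hqe : (q : ℂ) * e = k - c := by
    rw [← he, zz_zero, AddChar.map_zero_eq_one, one_mul, ← hχ, hχ1,
      Finset.sum_congr rfl fun v hv => by
        rw [hχ, char_zz ρ (Finset.ne_of_mem_erase hv)], ← Finset.sum_mul, hψsum, ← hχ, ← hc]
    ring
  have hD : s + (q - 1) * e = k := by
    have h : (q : ℂ) * ((s : ℂ) + ((q : ℂ) - 1) * e) = (q : ℂ) * k := by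
      linear_combination hqs + ((q : ℂ) - 1) * hqe
    have h2 := mul_left_cancel₀ hqC h
    rw [← Nat.cast_one, ← Nat.cast_sub (by omega : 1 ≤ q)] at h2
    exact_mod_cast h2
  have hck : c ≠ (k : ℂ) := by
    intro hcon
    have hz : ρ (zz (1 : F)) = LinearMap.id := by
      refine (Char.character_eq_finrank_iff ρ _).1 ?_
      rw [hdim, ← hχ, ← hc, hcon]
    have hker : ρ.ker = ⊤ := by
      rcases (MonoidHom.normal_ker ρ).eq_bot_or_eq_top with h | h
      · exfalso
        have hm' : zz (1 : F) ∈ ρ.ker := by rw [MonoidHom.mem_ker, hz]; rfl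
        rw [h, Subgroup.mem_bot] at hm'
        exact one_ne_zero (zz_eq_one_iff.1 hm')
      · exact h
    obtain ⟨-, hsub⟩ := Char.isIrreducible_iff.1 hρ
    haveI : Nonempty (Fin k) := ⟨⟨0, by omega⟩⟩
    obtain ⟨x, hx⟩ := exists_ne (0 : Fin k → ℂ)
    have hinvsub := hsub (Submodule.span ℂ {x}) fun g v hv => by
      rw [show ρ g = 1 from MonoidHom.mem_ker.1 (hker ▸ Subgroup.mem_top g)]
      exact hv
    rcases hinvsub with h | h
    · exact hx (Submodule.span_singleton_eq_bot.1 h)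
    · have := finrank_span_singleton (K := ℂ) hx
      rw [h, finrank_top, hdim] at this
      omega
  have hpos : 0 < e := by
    by_contra h0
    obtain rfl : e = 0 := by omega
    rw [Nat.cast_zero, mul_zero] at hqe
    exact hck (by linear_combination hqe)
  -- an abelian subgroup of order `q ^ 10`
  set A : (Fin 10 → F) → Gp F := fun a => prodA (List.finRange 10) a with hAdef
  have hAadd : ∀ a b, A (a + b) = A a * A b := fun a b => prodA_add a b _
  have hcardA : Nat.card (Fin 10 → F) = q ^ 10 := by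
    rw [Nat.card_fun, hnat, Nat.card_eq_fintype_card, Fintype.card_fin]
  have hcardB : Nat.card ((Fin 10 → F) × F) = q ^ 11 := by
    rw [Nat.card_prod, hcardA, hnat]; ring
  have hBadd : ∀ a b : (Fin 10 → F) × F,
      A (a + b).1 * zz (a + b).2 = (A a.1 * zz a.2) * (A b.1 * zz b.2) := by
    intro a b
    rw [Prod.fst_add, Prod.snd_add, hAadd, zz_add,
      ← (zz_commute_mem (prodA_mem b.1 (List.finRange 10)) a.2).symm.mul_mul_mul_comm]
  obtain ⟨N₀, hN₀⟩ := D4Deg.sum_twist_add ρ A hAadd 1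
  obtain ⟨N₁, hN₁⟩ := D4Deg.sum_twist_add ρ (fun a : (Fin 10 → F) × F => A a.1 * zz a.2) hBadd 1
  simp only [AddChar.one_apply, one_mul, hcardA, hcardB, ← hχ] at hN₀ hN₁
  rw [Fintype.sum_prod_type] at hN₁
  have hA0 : A 0 = 1 := by
    have h := hAadd 0 0
    rw [add_zero, left_eq_mul] at h
    exact h
  have hN : (q : ℤ) ^ 10 * N₁ = (s : ℤ) + (q : ℤ) ^ 10 * N₀ - k := by
    have h1 : ∑ a, ∑ v, χ (A a * zz v) =
        ∑ v, χ (zz v) + (q : ℂ) * (∑ a, χ (A a) - (k : ℂ)) := by
      rw [← Finset.add_sum_erase _ _ (Finset.mem_univ (0 : Fin 10 → F)),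
        ← Finset.add_sum_erase _ (fun a => χ (A a)) (Finset.mem_univ (0 : Fin 10 → F)), hA0, hχ1,
        add_sub_cancel_left, Finset.mul_sum]
      simp only [one_mul]
      congr 1
      refine Finset.sum_congr rfl fun a ha => ?_
      rw [Finset.sum_congr rfl fun v _ => vanish_prodA ρ (Finset.ne_of_mem_erase ha) v,
        Finset.sum_const, Finset.card_univ, nsmul_eq_mul]
    rw [hN₁, hN₀, hs] at h1
    have h2 : (q : ℂ) * ((q : ℂ) ^ 10 * N₁) = (q : ℂ) * ((s : ℂ) + (q : ℂ) ^ 10 * N₀ - k) := by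
      push_cast at h1 ⊢
      linear_combination h1
    have h3 := mul_left_cancel₀ hqC h2
    exact_mod_cast h3
  obtain ⟨m, hm⟩ : q ^ 10 ∣ e := by
    have hdvd : (q : ℤ) ^ 10 ∣ ((q : ℤ) - 1) * e := ⟨(N₀ : ℤ) - N₁, by
      have hD' : (s : ℤ) + ((q : ℤ) - 1) * e = k := by
        rw [← hD]; push_cast [Nat.cast_sub (by omega : 1 ≤ q)]; ring
      linear_combination hD' + hN⟩
    have hcop : IsCoprime ((q : ℤ) ^ 10) ((q : ℤ) - 1) :=
      (show IsCoprime (q : ℤ) ((q : ℤ) - 1) from ⟨1, -1, by ring⟩).pow_left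
    exact_mod_cast hcop.dvd_of_dvd_mul_left hdvd
  exact ⟨s, m, Nat.pos_of_ne_zero fun h0 => by rw [h0, mul_zero] at hm; omega,
    by rw [← hm]; exact hD.symm, hs, hqs, hck⟩

end Cfsg.Agent.E6Deg
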